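import Cfsg.Agent.Lib.Perm.CyclicZStab.Sharp
import Cfsg.Agent.Lib.ClassSizes.Kulakoff

/-!
# Two-transitive groups with a regular cyclic subgroup and Z-group point stabilisers: blocks

The conjugates of a subgroup of a two point stabiliser have fixed point sets forming a linear space.
-/

set_option autoImplicit false

namespace CfsgLib.Perm.CyclicZStab

open MulAction Subgroup
open scoped commutatorElement

variable {G Ω : Type*} [Group G] [MulAction G Ω]

/-- A 2-transitive group with a transitive cyclic subgroup and Z-groups as point stabilisers. -/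
structure CZ (G Ω : Type*) [Group G] [MulAction G Ω] : Prop where
  faithful : FaithfulSMul G Ω
  two : IsMultiplyPretransitive G Ω 2
  cyc : ∃ A : Subgroup G, IsCyclic A ∧ ∀ x y : Ω, ∃ a ∈ A, a • x = y
  zgroup : ∀ a : Ω, IsZGroup ↥(stabilizer G a)
  even : Even (Nat.card Ω)
  four : 4 ≤ Nat.card Ω

theorem CZ.finite (S : CZ G Ω) : Finite Ω := Nat.finite_of_card_ne_zero (by have := S.four; omega)

theorem CZ.finiteGroup (S : CZ G Ω) : Finite G := by
  have := S.faithful
  have := S.finite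
  exact Finite.of_injective (MulAction.toPermHom G Ω) MulAction.toPerm_injective

theorem CZ.map_pair (S : CZ G Ω) {a b c d : Ω} (hab : a ≠ b) (hcd : c ≠ d) :
    ∃ g : G, g • a = c ∧ g • b = d :=
  is_two_pretransitive_iff.1 S.two hab hcd

theorem smul_eq_of_zpowers_le {x y : G} (h : y ∈ zpowers x) {p : Ω} (hp : x • p = p) : y • p = p := by
  have : zpowers x ≤ stabilizer G p := zpowers_le.2 hp
  exact this h

theorem smul_eq_iff_of_zpowers_eq {x y : G} (h : zpowers x = zpowers y) (p : Ω) :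
    x • p = p ↔ y • p = p :=
  ⟨smul_eq_of_zpowers_le (h ▸ mem_zpowers y), smul_eq_of_zpowers_le (h.symm ▸ mem_zpowers x)⟩

theorem conj_smul_eq {x g : G} {p q : Ω} (hp : x • p = p) (hg : g • p = q) : (g * x * g⁻¹) • q = q := by
  rw [← hg, mul_smul, mul_smul, inv_smul_smul, hp]

/-- The cyclic regular subgroup and its involution. -/
theorem CZ.exists_translations (S : CZ G Ω) : ∃ A : Subgroup G, ∃ g₁ ∈ A, ∃ t ∈ A,
    A = zpowers g₁ ∧ t ^ 2 = 1 ∧ (∀ x : Ω, t • x ≠ x) ∧ (∀ x y : Ω, ∃ a ∈ A, a • x = y) ∧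
      (∀ a ∈ A, ∀ b ∈ A, a * b = b * a) ∧ (∀ a ∈ A, ∀ x : Ω, a • x = x → a = 1) ∧
      (∀ a ∈ A, a ^ 2 = 1 → a = 1 ∨ a = t) := by
  classical
  have := S.faithful
  have := S.finite
  have := S.finiteGroup
  obtain ⟨A, hA, htr⟩ := S.cyc
  let _ : CommGroup A := IsCyclic.commGroup
  have hcomm : ∀ a ∈ A, ∀ b ∈ A, a * b = b * a := fun a ha b hb =>
    congrArg Subtype.val (mul_comm (⟨a, ha⟩ : A) ⟨b, hb⟩)
  have hreg : ∀ a ∈ A, ∀ x : Ω, a • x = x → a = 1 := fun a ha x hx => eq_of_smul_eq_smul fun y : Ω => by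
    obtain ⟨b, hb, rfl⟩ := htr x y
    rw [one_smul, ← mul_smul, hcomm a ha b hb, mul_smul, hx]
  obtain ⟨x₀⟩ : Nonempty Ω := (Nat.card_pos_iff.1 (by have := S.four; omega)).1
  have hcard : Nat.card A = Nat.card Ω := by
    refine Nat.card_congr (Equiv.ofBijective (fun a : A => (a : G) • x₀) ⟨fun a b e => ?_, fun y => ?_⟩)
    · refine Subtype.ext (inv_mul_eq_one.1 (hreg _ (A.mul_mem (A.inv_mem a.2) b.2) x₀ ?_))
      simp only at e
      rw [mul_smul, ← e, inv_smul_smul]
    · obtain ⟨a, ha, hay⟩ := htr x₀ y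
      exact ⟨⟨a, ha⟩, hay⟩
  have : Fact (Nat.Prime 2) := ⟨Nat.prime_two⟩
  obtain ⟨⟨t, htA⟩, ht⟩ := exists_prime_orderOf_dvd_card' (G := A) 2 (hcard ▸ even_iff_two_dvd.1 S.even)
  rw [Subgroup.orderOf_mk] at ht
  have ht2 : t ^ 2 = 1 := by rw [← ht, pow_orderOf_eq_one]
  have ht1 : t ≠ 1 := fun e => by rw [e, orderOf_one] at ht; omega
  obtain ⟨⟨g₁, hg₁⟩, hgen⟩ := hA.exists_generator
  refine ⟨A, g₁, hg₁, t, htA, le_antisymm (fun a ha => ?_) (zpowers_le.2 hg₁), ht2,
    fun x hx => ht1 (hreg t htA x hx), htr, hcomm, hreg, fun a ha ha2 => ?_⟩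
  · obtain ⟨i, hi⟩ := mem_zpowers_iff.1 (hgen ⟨a, ha⟩)
    exact mem_zpowers_iff.2 ⟨i, congrArg Subtype.val hi⟩
  · by_contra hne
    push Not at hne
    have := Fintype.ofFinite A
    have hsub : ({1, ⟨t, htA⟩, ⟨a, ha⟩} : Finset A) ⊆ Finset.univ.filter fun x => x ^ 2 = 1 := by
      intro x hx
      simp only [Finset.mem_insert, Finset.mem_singleton] at hx
      rcases hx with rfl | rfl | rfl <;> simp [Subtype.ext_iff, ht2, ha2]
    have h3 : ({1, ⟨t, htA⟩, ⟨a, ha⟩} : Finset A).card = 3 :=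
      Finset.card_eq_three.2 ⟨_, _, _, by simp [Subtype.ext_iff, Ne.symm ht1], by simp [Subtype.ext_iff, Ne.symm hne.1],
        by simp [Subtype.ext_iff, Ne.symm hne.2], rfl⟩
    have := (Finset.card_le_card hsub).trans (IsCyclic.card_pow_eq_one_le two_pos)
    omega

/-- The derived subgroup of a point stabiliser. -/
theorem CZ.stab_data (S : CZ G Ω) (a : Ω) : ∃ D : Subgroup G, D ≤ stabilizer G a ∧ IsCyclic D ∧
    (∀ g ∈ stabilizer G a, ∀ d ∈ D, g * d * g⁻¹ ∈ D) ∧
    (∀ g ∈ stabilizer G a, ∀ h ∈ stabilizer G a, g * h * g⁻¹ * h⁻¹ ∈ D) ∧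
    (∀ d ∈ D, ∀ b : Ω, b ≠ a → d • b = b → d = 1) ∧
    Nat.Coprime (Nat.card D) (D.relIndex (stabilizer G a)) := by
  classical
  have := S.faithful
  have := S.finite
  have := S.finiteGroup
  have := S.zgroup a
  let B := stabilizer G a
  let D := (_root_.commutator B).map B.subtype
  have hcyc : IsCyclic D := by
    have := IsZGroup.isCyclic_commutator (G := B)
    exact ((_root_.commutator B).equivMapOfInjective B.subtype B.subtype_injective).isCyclic.1 inferInstance
  have hconj : ∀ g ∈ B, ∀ d ∈ D, g * d * g⁻¹ ∈ D := by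
    rintro g hg _ ⟨d, hd, rfl⟩
    exact ⟨⟨g, hg⟩ * d * ⟨g, hg⟩⁻¹, (inferInstance : (_root_.commutator B).Normal).conj_mem d hd _, rfl⟩
  refine ⟨D, map_subtype_le _, hcyc, hconj, fun g hg h hh => ?_, fun d hd b hb hdb => ?_, ?_⟩
  · refine ⟨⁅(⟨g, hg⟩ : B), ⟨h, hh⟩⁆, ?_, rfl⟩
    exact commutator_mem_commutator (mem_top _) (mem_top _)
  · refine eq_of_smul_eq_smul fun y : Ω => ?_
    rw [one_smul]
    by_cases hy : y = a
    · subst hy
      exact map_subtype_le (_root_.commutator B) hd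
    obtain ⟨g, hga, hgb⟩ := S.map_pair (Ne.symm hb) (Ne.symm hy)
    have hmem : g⁻¹ * d * g ∈ zpowers d := by
      have h1 : g⁻¹ * d * g ∈ D := by
        have := hconj g⁻¹ (inv_mem (show g ∈ B from hga)) d hd
        rwa [inv_inv] at this
      obtain ⟨gen, hgen⟩ := hcyc.exists_generator
      have hord : orderOf (g⁻¹ * d * g) = orderOf d := by
        simpa using (MulAut.conj g⁻¹).orderOf_eq d
      have hc : Nat.card (zpowers (⟨g⁻¹ * d * g, h1⟩ : D)) = Nat.card (zpowers (⟨d, hd⟩ : D)) := by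
        rw [Nat.card_zpowers, Nat.card_zpowers, Subgroup.orderOf_mk, Subgroup.orderOf_mk, hord]
      obtain ⟨i, hi⟩ := mem_zpowers_iff.1
        ((CfsgLib.ClassSizes.Kulakoff.eq_of_card_eq_of_isCyclic hc) ▸ mem_zpowers (⟨g⁻¹ * d * g, h1⟩ : D))
      exact mem_zpowers_iff.2 ⟨i, congrArg Subtype.val hi⟩
    have := smul_eq_of_zpowers_le hmem hdb
    rw [mul_smul, mul_smul, hgb] at this
    exact inv_smul_eq_iff.1 this ▸ hgb
  · have hc := IsZGroup.coprime_commutator_index (G := B)
    rw [show Nat.card D = Nat.card (_root_.commutator B) from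
      (Nat.card_congr ((_root_.commutator B).equivMapOfInjective B.subtype B.subtype_injective).toEquiv).symm]
    rwa [show D.relIndex B = (_root_.commutator B).index by
      rw [Subgroup.relIndex, Subgroup.subgroupOf, comap_map_eq_self_of_injective B.subtype_injective]]

theorem CZ.pair_cyclic (S : CZ G Ω) {a b : Ω} (hab : a ≠ b) :
    IsCyclic ↥(stabilizer G a ⊓ stabilizer G b) := by
  classical
  have := S.faithful
  have := S.finiteGroup
  obtain ⟨D, -, -, -, hcomm, hfree, -⟩ := S.stab_data a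
  have := S.zgroup a
  let B := stabilizer G a
  let H := stabilizer G a ⊓ stabilizer G b
  let f : H →* Abelianization B := Abelianization.of.comp (Subgroup.inclusion inf_le_left)
  refine isCyclic_of_injective f ((injective_iff_map_eq_one f).2 fun h hh => Subtype.ext ?_)
  have hm : (⟨(h : G), h.2.1⟩ : B) ∈ _root_.commutator B := (QuotientGroup.eq_one_iff _).1 hh
  have hD : (h : G) ∈ D := by
    have : _root_.commutator B ≤ D.comap B.subtype := by
      rw [_root_.commutator_def, Subgroup.commutator_le]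
      intro x _ y _
      exact hcomm x x.2 y y.2
    exact this hm
  exact hfree _ hD b hab.symm h.2.2

theorem CZ.zpowers_eq (S : CZ G Ω) {a b : Ω} (hab : a ≠ b) {x y : G} (hxa : x • a = a) (hxb : x • b = b)
    (hya : y • a = a) (hyb : y • b = b) (ho : orderOf x = orderOf y) : zpowers x = zpowers y := by
  classical
  have := S.finiteGroup
  have := S.pair_cyclic hab
  let H := stabilizer G a ⊓ stabilizer G b
  have hc : Nat.card (zpowers (⟨x, hxa, hxb⟩ : H)) = Nat.card (zpowers (⟨y, hya, hyb⟩ : H)) := by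
    rw [Nat.card_zpowers, Nat.card_zpowers, ← Subgroup.orderOf_coe, ← Subgroup.orderOf_coe]
    exact ho
  have h := congrArg (fun K : Subgroup H => K.map H.subtype) (CfsgLib.ClassSizes.Kulakoff.eq_of_card_eq_of_isCyclic hc)
  simp only [MonoidHom.map_zpowers] at h
  exact h

theorem CZ.involution_eq (S : CZ G Ω) {a b : Ω} (hab : a ≠ b) {x y : G} (hxa : x • a = a) (hxb : x • b = b)
    (hya : y • a = a) (hyb : y • b = b) (hx : orderOf x = 2) (hy : orderOf y = 2) : x = y := by
  have h := S.zpowers_eq hab hxa hxb hya hyb (hx.trans hy.symm)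
  obtain ⟨i, hi⟩ := mem_zpowers_iff.1 (h ▸ mem_zpowers x)
  have h2 : y ^ 2 = 1 := by rw [← hy, pow_orderOf_eq_one]
  rcases Int.even_or_odd i with ⟨k, rfl⟩ | ⟨k, rfl⟩
  · exfalso
    rw [← two_mul, zpow_mul, zpow_ofNat, h2, one_zpow] at hi
    rw [← hi, orderOf_one] at hx
    omega
  · rw [← hi, zpow_add_one, zpow_mul, zpow_ofNat, h2, one_zpow, one_mul]

theorem CZ.conj_fix (S : CZ G Ω) {x : G} {a b c d : Ω} (hab : a ≠ b) (hcd : c ≠ d) (ha : x • a = a)
    (hb : x • b = b) : ∃ g : G, g • a = c ∧ g • b = d ∧ (g * x * g⁻¹) • c = c ∧ (g * x * g⁻¹) • d = d ∧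
      orderOf (g * x * g⁻¹) = orderOf x := by
  obtain ⟨g, hga, hgb⟩ := S.map_pair hab hcd
  exact ⟨g, hga, hgb, conj_smul_eq ha hga, conj_smul_eq hb hgb, (MulAut.conj g).orderOf_eq x⟩

/-- The fixed points of `x`, as a set acted on by the normaliser of `⟨x⟩`. -/
def fixSub (x : G) : SubMulAction ↥(normalizer (zpowers x : Set G)) Ω where
  carrier := {p | x • p = p}
  smul_mem' g p hp := by
    have h : (g : G)⁻¹ * x * (g : G) ∈ zpowers x := by
      have h0 := mem_normalizer_iff.1 (inv_mem g.2) x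
      rw [inv_inv] at h0
      exact h0.1 (mem_zpowers x)
    have h' := smul_eq_of_zpowers_le h hp
    rw [mul_smul, mul_smul] at h'
    exact inv_smul_eq_iff.1 h'

theorem mem_fixSub {x : G} {p : Ω} : p ∈ fixSub x ↔ x • p = p := Iff.rfl

theorem fix_smul {x g : G} (hg : g ∈ normalizer (zpowers x : Set G)) {p : Ω} (hp : x • p = p) :
    x • g • p = g • p :=
  (fixSub (Ω := Ω) x).smul_mem (⟨g, hg⟩ : ↥(normalizer (zpowers x : Set G))) hp

/-- The permutation group induced on the fixed points of `x`. -/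
abbrev fixImage (x : G) : Subgroup (Equiv.Perm ↥(fixSub (Ω := Ω) x)) :=
  (MulAction.toPermHom ↥(normalizer (zpowers x : Set G)) ↥(fixSub (Ω := Ω) x)).range

theorem mem_normalizer_zpowers [Finite G] {g x : G} (h : g * x * g⁻¹ ∈ zpowers x) :
    g ∈ normalizer (zpowers x : Set G) := by
  have hle : (zpowers x).map (MulAut.conj g).toMonoidHom ≤ zpowers x := by
    rw [MonoidHom.map_zpowers, zpowers_le]; exact h
  have heq := Subgroup.eq_of_le_of_card_ge hle
    (le_of_eq (Nat.card_congr ((zpowers x).equivMapOfInjective _ (MulAut.conj g).injective).toEquiv))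
  refine mem_normalizer_iff.2 fun y => ⟨fun hy => hle ⟨y, hy, rfl⟩, fun hy => ?_⟩
  rw [← heq] at hy
  obtain ⟨z, hz, e⟩ := hy
  rwa [← (MulAut.conj g).injective e]

/-- The structure of the fixed point set of an element fixing `γ` and `tγ`. -/
theorem CZ.block (S : CZ G Ω) {A : Subgroup G} {t : G} (htA : t ∈ A) (ht2 : t ^ 2 = 1)
    (htf : ∀ x : Ω, t • x ≠ x) (htr : ∀ x y : Ω, ∃ a ∈ A, a • x = y)
    (hcomm : ∀ a ∈ A, ∀ b ∈ A, a * b = b * a) {x : G} {γ : Ω} (hx : x • γ = γ) (hxt : x • t • γ = t • γ) :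
    t ∈ normalizer (zpowers x : Set G) ∧ (∀ p : Ω, x • p = p → x • t • p = t • p) ∧
      Even (Nat.card ↥(fixSub (Ω := Ω) x)) ∧
      ∀ p q : Ω, x • p = p → x • q = q → ∃ a ∈ A, a ∈ normalizer (zpowers x : Set G) ∧ a • p = q := by
  have := S.faithful
  have := S.finite
  have := S.finiteGroup
  have tt : t • t • γ = γ := by rw [← mul_smul, ← pow_two, ht2, one_smul]
  have htN : t ∈ normalizer (zpowers x : Set G) := by
    refine mem_normalizer_zpowers ?_
    have h := S.zpowers_eq (Ne.symm (htf γ)) (conj_smul_eq hxt tt) (conj_smul_eq hx rfl) hx hxt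
      ((MulAut.conj t).orderOf_eq x)
    rw [← h]
    exact mem_zpowers _
  have hstable : ∀ p : Ω, x • p = p → x • t • p = t • p := fun p hp => fix_smul htN hp
  refine ⟨htN, hstable, even_card_of_fpf (G := ↥(normalizer (zpowers x : Set G))) (g := ⟨t, htN⟩)
    (Subtype.ext ht2) (fun p e => htf p.1 (congrArg Subtype.val e)), fun p q hp hq => ?_⟩
  obtain ⟨a, ha, hapq⟩ := htr p q
  refine ⟨a, ha, mem_normalizer_zpowers ?_, hapq⟩
  have h2 : a • t • p = t • q := by rw [← mul_smul, hcomm a ha t htA, mul_smul, hapq]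
  have h := S.zpowers_eq (Ne.symm (htf q)) (conj_smul_eq hp hapq) (conj_smul_eq (hstable p hp) h2) hq (hstable q hq)
    ((MulAut.conj a).orderOf_eq x)
  rw [← h]
  exact mem_zpowers _

theorem coe_toPermHom_smul {x : G} (g : ↥(normalizer (zpowers x : Set G))) (p : ↥(fixSub (Ω := Ω) x)) :
    (((MulAction.toPermHom _ ↥(fixSub (Ω := Ω) x)) g) p : Ω) = (g : G) • (p : Ω) := rfl

/-- The group induced on a fixed point set again satisfies the hypotheses. -/
theorem CZ.image (S : CZ G Ω) {A : Subgroup G} {t : G} (hA : IsCyclic A) (htA : t ∈ A) (ht2 : t ^ 2 = 1)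
    (htf : ∀ x : Ω, t • x ≠ x) (htr : ∀ x y : Ω, ∃ a ∈ A, a • x = y)
    (hcomm : ∀ a ∈ A, ∀ b ∈ A, a * b = b * a) {x : G} {γ : Ω} (hx : x • γ = γ) (hxt : x • t • γ = t • γ)
    (h4 : 4 ≤ Nat.card ↥(fixSub (Ω := Ω) x)) :
    CZ ↥(fixImage (Ω := Ω) x) ↥(fixSub (Ω := Ω) x) := by
  classical
  have := S.faithful
  have := S.finite
  have := S.finiteGroup
  obtain ⟨-, -, heven, htrN⟩ := S.block htA ht2 htf htr hcomm hx hxt
  let π := (MulAction.toPermHom ↥(normalizer (zpowers x : Set G)) ↥(fixSub (Ω := Ω) x)).rangeRestrict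
  have hπ : ∀ (g : ↥(normalizer (zpowers x : Set G))) (p : ↥(fixSub (Ω := Ω) x)), π g • p = g • p :=
    fun g p => rfl
  refine ⟨inferInstance, ?_, ?_, ?_, heven, h4⟩
  · rw [is_two_pretransitive_iff]
    intro a b c d hab hcd
    have hab' : (a : Ω) ≠ b := fun e => hab (Subtype.ext e)
    have hcd' : (c : Ω) ≠ d := fun e => hcd (Subtype.ext e)
    obtain ⟨g, hga, hgb⟩ := S.map_pair hab' hcd'
    have hg : g ∈ normalizer (zpowers x : Set G) := by
      refine mem_normalizer_zpowers ?_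
      have h := S.zpowers_eq hcd' (conj_smul_eq a.2 hga) (conj_smul_eq b.2 hgb) c.2 d.2
        ((MulAut.conj g).orderOf_eq x)
      rw [← h]
      exact mem_zpowers _
    exact ⟨π ⟨g, hg⟩, (hπ _ a).trans (Subtype.ext hga), (hπ _ b).trans (Subtype.ext hgb)⟩
  · refine ⟨(A.subgroupOf _).map π, ?_, fun p q => ?_⟩
    · have : IsCyclic (A.subgroupOf (normalizer (zpowers x : Set G))) :=
        isCyclic_of_injective ((((normalizer (zpowers x : Set G)).subtype).comp
          (A.subgroupOf _).subtype).codRestrict A fun y => y.2)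
          (fun u v e => Subtype.ext (Subtype.ext (congrArg (fun w : A => (w : G)) e)))
      exact isCyclic_of_surjective (π.subgroupMap _) (π.subgroupMap_surjective _)
    · obtain ⟨a, ha, haN, hap⟩ := htrN p q p.2 q.2
      exact ⟨π ⟨a, haN⟩, mem_map_of_mem π (show (⟨a, haN⟩ : ↥(normalizer (zpowers x : Set G))) ∈ A.subgroupOf _ from ha),
        (hπ _ p).trans (Subtype.ext hap)⟩
  · intro p
    have := S.zgroup (p : Ω)
    let Np := stabilizer ↥(normalizer (zpowers x : Set G)) p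
    have : IsZGroup Np := IsZGroup.of_injective
      (f := (((normalizer (zpowers x : Set G)).subtype).comp Np.subtype).codRestrict (stabilizer G (p : Ω))
        fun g => congrArg Subtype.val g.2)
      (fun u v e => Subtype.ext (Subtype.ext (congrArg (fun w : stabilizer G (p : Ω) => (w : G)) e)))
    refine IsZGroup.of_surjective (f := ((π.comp Np.subtype).codRestrict (stabilizer _ p) fun g => ?_)) ?_
    · show π (g : ↥(normalizer (zpowers x : Set G))) • p = p
      rw [hπ]; exact g.2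
    · rintro ⟨y, hy⟩
      obtain ⟨g, rfl⟩ := MonoidHom.rangeRestrict_surjective _ y
      exact ⟨⟨g, (hπ g p).symm.trans hy⟩, rfl⟩

end CfsgLib.Perm.CyclicZStab
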