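import Cfsg.Agent.Lib.Perm.CyclicZStab.Main

/-!
# The degree is a prime plus one
-/

set_option autoImplicit false

namespace CfsgLib.Perm.CyclicZStab

open MulAction Subgroup

universe u

variable {G Ω : Type u} [Group G] [MulAction G Ω]

/-- The regular normal subgroup of prime order of a point stabiliser. -/
theorem CZ.point_data (S : CZ G Ω) (a : Ω) : ∃ D : Subgroup G, ∃ p : ℕ, p.Prime ∧ Nat.card Ω = p + 1 ∧
    Nat.card D = p ∧ D ≤ stabilizer G a ∧ (∀ g ∈ stabilizer G a, ∀ d ∈ D, g * d * g⁻¹ ∈ D) ∧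
    (∀ b c : Ω, b ≠ a → c ≠ a → ∃ d ∈ D, d • b = c) ∧ (∀ d ∈ D, ∀ b : Ω, b ≠ a → d • b = b → d = 1) ∧
    (∀ g ∈ stabilizer G a, g ^ p = 1 → g ∈ D) := by
  classical
  have := S.faithful
  have := S.finite
  have := S.finiteGroup
  have := Fintype.ofFinite Ω
  have SS := CZ.sharp S
  have h4 := S.four
  obtain ⟨D, hDle, hDc, hDn, hDcomm, hDfree, hcop⟩ := S.stab_data a
  obtain ⟨b₀, hb₀, -⟩ := exists_third (show 3 ≤ Nat.card Ω by omega) a a
  have hH := SS.card a b₀ hb₀.symm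
  set H := stabilizer G a ⊓ stabilizer G b₀ with hHdef
  -- `D` is not trivial
  obtain ⟨d₀, hd₀, hd₀1⟩ : ∃ d ∈ D, d ≠ 1 := by
    by_contra hcon
    push Not at hcon
    obtain ⟨z, hz, hza, hzb⟩ := S.exists_involution hb₀.symm
    obtain ⟨c, hca, hcb⟩ := exists_third (show 3 ≤ Nat.card Ω by omega) a b₀
    obtain ⟨g, hga, hgb⟩ := S.map_pair hb₀.symm (Ne.symm hca)
    have h1 := hcon _ (hDcomm g hga z hza)
    rw [mul_inv_eq_one, mul_inv_eq_iff_eq_mul] at h1
    have hzc : z • c = c := by rw [← hgb, ← mul_smul, ← h1, mul_smul, hzb]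
    have h := SS.three z a b₀ c hb₀.symm (Ne.symm hcb) (Ne.symm hca) hza hzb hzc
    rw [h, orderOf_one] at hz
    omega
  -- `D` acts semiregularly, so has at most `n - 1` elements
  have hinj : Function.Injective fun d : D => (⟨(d : G) • b₀, fun e => hb₀ (smul_left_cancel (d : G)
      (e.trans (hDle d.2 : (d : G) • a = a).symm))⟩ : {x : Ω // x ≠ a}) := fun u v e => by
    have h := congrArg Subtype.val e
    simp only at h
    refine Subtype.ext (inv_mul_eq_one.1 (hDfree _ (D.mul_mem (D.inv_mem u.2) v.2) b₀ hb₀ ?_))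
    rw [mul_smul, ← h, inv_smul_smul]
  have hX : Nat.card {x : Ω // x ≠ a} = Nat.card Ω - 1 := by
    rw [Nat.card_eq_fintype_card, Fintype.card_subtype_compl, Fintype.card_subtype_eq, Nat.card_eq_fintype_card]
  -- the two point stabiliser acts freely on `D` minus one
  have hfree : ∀ h ∈ H, ∀ d ∈ D, d ≠ 1 → h * d * h⁻¹ = d → h = 1 := by
    intro h hh d hd hd1 e
    have hdb : d • b₀ ≠ b₀ := fun e' => hd1 (hDfree d hd b₀ hb₀ e')
    have hda : d • b₀ ≠ a := fun e' => hb₀ (smul_left_cancel d (e'.trans (hDle hd : d • a = a).symm))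
    refine SS.three h a b₀ (d • b₀) hb₀.symm (Ne.symm hdb) (Ne.symm hda) hh.1 hh.2 ?_
    rw [← mul_smul, mul_inv_eq_iff_eq_mul.1 e, mul_smul, (hh.2 : h • b₀ = b₀)]
  let f : H → {d : D // d ≠ 1} := fun h => ⟨⟨h * d₀ * (h : G)⁻¹, hDn h h.2.1 d₀ hd₀⟩, fun e => hd₀1 (by
    have := congrArg Subtype.val e
    simpa using this)⟩
  have hf : Function.Injective f := fun h h' e => by
    have e' : (h : G) * d₀ * (h : G)⁻¹ = (h' : G) * d₀ * (h' : G)⁻¹ := congrArg (fun x => ((x.1 : D) : G)) e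
    refine Subtype.ext (inv_mul_eq_one.1 (hfree _ (H.mul_mem (H.inv_mem h.2) h'.2) d₀ hd₀ hd₀1 ?_))
    calc (h : G)⁻¹ * h' * d₀ * ((h : G)⁻¹ * h')⁻¹ = (h : G)⁻¹ * ((h' : G) * d₀ * (h' : G)⁻¹) * h := by group
      _ = d₀ := by rw [← e']; group
  have := Fintype.ofFinite D
  have hD1 : Nat.card {d : D // d ≠ 1} = Nat.card D - 1 := by
    rw [Nat.card_eq_fintype_card, Fintype.card_subtype_compl, Fintype.card_subtype_eq, Nat.card_eq_fintype_card]
  have hle1 := Nat.card_le_card_of_injective _ hinj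
  have hle2 := Nat.card_le_card_of_injective f hf
  rw [hX] at hle1
  rw [hH, hD1] at hle2
  have hDcard : Nat.card D = Nat.card Ω - 1 := by omega
  have hfs : Function.Surjective f :=
    ((Nat.bijective_iff_injective_and_card f).2 ⟨hf, by rw [hH, hD1]; omega⟩).2
  have hds : ∀ b c : Ω, b ≠ a → c ≠ a → ∃ d ∈ D, d • b = c := by
    have hs := ((Nat.bijective_iff_injective_and_card _).2 ⟨hinj, by rw [hX]; exact hDcard⟩).2
    intro b c hb hc
    obtain ⟨u, hu⟩ := hs ⟨b, hb⟩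
    obtain ⟨v, hv⟩ := hs ⟨c, hc⟩
    refine ⟨(v : G) * (u : G)⁻¹, D.mul_mem v.2 (D.inv_mem u.2), ?_⟩
    have hu' : (u : G) • b₀ = b := congrArg Subtype.val hu
    have hv' : (v : G) • b₀ = c := congrArg Subtype.val hv
    rw [mul_smul, smul_inv_eq hu', hv']
  -- all non trivial elements of `D` have the same prime order
  obtain ⟨q, hq, hqd⟩ := Nat.exists_prime_and_dvd (n := Nat.card D) (by omega)
  have := Fact.mk hq
  have hord : ∀ d : D, d ≠ 1 → orderOf (d : G) = orderOf d₀ := fun d hd => by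
    obtain ⟨h, hh⟩ := hfs ⟨d, hd⟩
    have : (d : G) = (h : G) * d₀ * (h : G)⁻¹ := (congrArg (fun x => ((x.1 : D) : G)) hh).symm
    rw [this]
    exact (MulAut.conj (h : G)).orderOf_eq d₀
  obtain ⟨w, hw⟩ := exists_prime_orderOf_dvd_card' (G := D) q hqd
  have hDq : Nat.card D = q := by
    obtain ⟨gen, hgen⟩ := hDc.exists_generator
    rw [← orderOf_eq_card_of_forall_mem_zpowers hgen, ← Subgroup.orderOf_coe, hord gen (fun e => ?_),
      ← hord w (fun e => by rw [e, orderOf_one] at hw; exact hq.ne_one hw.symm), Subgroup.orderOf_coe, hw]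
    have := hgen ⟨d₀, hd₀⟩
    rw [e, zpowers_one_eq_bot, mem_bot] at this
    exact hd₀1 (congrArg Subtype.val this)
  refine ⟨D, q, hq, by omega, hDq, hDle, hDn, hds, hDfree, fun g hg hgq => ?_⟩
  have : (D.subgroupOf (stabilizer G a)).Normal := ⟨fun d hd g => hDn g g.2 d hd⟩
  let gb : stabilizer G a ⧸ D.subgroupOf (stabilizer G a) := QuotientGroup.mk' _ ⟨g, hg⟩
  have h1 : orderOf gb ∣ q := orderOf_dvd_of_pow_eq_one (by
    rw [← map_pow, show (⟨g, hg⟩ : stabilizer G a) ^ q = 1 from Subtype.ext hgq, map_one])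
  have h2 : orderOf gb ∣ D.relIndex (stabilizer G a) := by
    rw [show D.relIndex (stabilizer G a) = Nat.card (stabilizer G a ⧸ D.subgroupOf (stabilizer G a)) from
      Subgroup.index_eq_card _]
    exact orderOf_dvd_natCard _
  rw [hDq] at hcop
  have h3 := Nat.dvd_gcd h1 h2
  rw [hcop.gcd_eq_one, Nat.dvd_one, orderOf_eq_one_iff] at h3
  exact (QuotientGroup.eq_one_iff (⟨g, hg⟩ : stabilizer G a)).1 h3

end CfsgLib.Perm.CyclicZStab
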