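import Cfsg.Agent.Lib.Signalizer.Count
import Cfsg.Agent.Lib.OddLocal.Final.OddOrder
import Cfsg.Agent.Lib.Components.Subnormal

/-!
# Solvability helpers
-/

set_option autoImplicit false

namespace CfsgLib.Perm.CyclicZStab

open Subgroup

universe u

/-- A group with cyclic Sylow 2-subgroups is solvable. -/
theorem isSolvable_of_cyclic_two {G : Type u} [Group G] [Finite G] (T : Sylow 2 G)
    (hT : IsCyclic (T : Subgroup G)) : Group.IsSolvable G := by
  rcases Nat.even_or_odd (Nat.card G) with heven | hodd
  swap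
  · exact CfsgLib.OddLocal.FTFinal.odd_order_solvable hodd
  have h2 : (Nat.card G).minFac = 2 := Nat.minFac_eq_two_iff _ |>.mpr (even_iff_two_dvd.mp heven)
  have hN := hT.normalizer_le_centralizer (P := T) (by rw [h2])
  have hc := MonoidHom.ker_transferSylow_isComplement' T hN
  set f := MonoidHom.transferSylow T hN with hf
  have : Fact (Nat.Prime 2) := ⟨Nat.prime_two⟩
  have hodd : Odd (Nat.card f.ker) := by
    by_contra hne
    rw [Nat.not_odd_iff_even, even_iff_two_dvd] at hne
    exact T.not_dvd_index (hc.index_eq_card ▸ hne)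
  have hk : Group.IsSolvable f.ker := CfsgLib.OddLocal.FTFinal.odd_order_solvable hodd
  let _ : CommGroup (T : Subgroup G) := IsCyclic.commGroup
  exact Group.isSolvable_of_ker_le_range f.ker.subtype f (by rw [Subgroup.range_subtype])

/-- The largest normal solvable subgroup. -/
theorem exists_radical (G : Type u) [Group G] [Finite G] :
    ∃ R : Subgroup G, R.Normal ∧ Group.IsSolvable R ∧
      ∀ N : Subgroup G, N.Normal → Group.IsSolvable N → N ≤ R := by
  obtain ⟨R, ⟨hRn, hRs⟩, hmax⟩ := Set.Finite.exists_maximal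
    (Set.toFinite {N : Subgroup G | N.Normal ∧ Group.IsSolvable N}) ⟨⊥, inferInstance, inferInstance⟩
  refine ⟨R, hRn, hRs, fun N hN hNs => ?_⟩
  have hs : Group.IsSolvable ↥(R ⊔ N) :=
    CfsgLib.Components.isSolvable_sup (by rw [normalizer_eq_top_iff.2 hRn]; exact le_top) hRs hNs
  exact le_sup_right.trans (hmax (y := R ⊔ N) ⟨inferInstance, hs⟩ le_sup_left)

/-- The solvable radical of a normal subgroup is trivial if the group has none. -/
theorem radical_trivial_of_normal {G : Type u} [Group G] [Finite G]
    (hrad : ∀ N : Subgroup G, N.Normal → Group.IsSolvable N → N = ⊥) (M : Subgroup G) (hM : M.Normal)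
    (N : Subgroup M) (hN : N.Normal) (hNs : Group.IsSolvable N) : N = ⊥ := by
  obtain ⟨R, hRn, hRs, hRmax⟩ := exists_radical M
  have hR' : (R.map M.subtype).Normal := ⟨by
    rintro _ ⟨r, hr, rfl⟩ g
    let φ : M ≃* M := MulAut.conjNormal g
    have hle : R.map φ.toMonoidHom ≤ R := by
      refine hRmax _ (hRn.map φ.toMonoidHom φ.surjective) ?_
      exact Group.isSolvable_of_surjective (φ.toMonoidHom.subgroupMap_surjective R)
    exact ⟨φ r, hle ⟨r, hr, rfl⟩, MulAut.conjNormal_apply g r⟩⟩
  have hb := hrad _ hR' (Group.isSolvable_of_surjective (M.subtype.subgroupMap_surjective R))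
  rw [← le_bot_iff]
  refine (hRmax N hN hNs).trans ?_
  rw [le_bot_iff]
  exact (Subgroup.map_eq_bot_iff_of_injective R M.subtype_injective).1 hb

end CfsgLib.Perm.CyclicZStab
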