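import Cfsg.Agent.Lib.Perm.CyclicZStab.Degree
import Cfsg.Agent.Lib.Perm.CyclicZStab.Solvable
import Cfsg.Agent.Lib.Perm.CyclicRegularAction
import Cfsg.Agent.Lib.Classical.Dickson.MinimalSimple

/-!
# Non-solvable products of a cyclic group and a Z-group
-/

set_option autoImplicit false

namespace CfsgLib.Perm.CyclicZStab

open MulAction Subgroup

universe u

variable {G : Type u} [Group G]

/-- A factorisation of a non-solvable group without solvable normal subgroups. -/
structure Fac (G : Type u) [Group G] (A B : Subgroup G) : Prop where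
  fin : Finite G
  nonsolvable : ¬ Group.IsSolvable G
  radical : ∀ N : Subgroup G, N.Normal → Group.IsSolvable N → N = ⊥
  cyclic : IsCyclic A
  zgroup : IsZGroup B
  prod : ∀ g : G, ∃ a ∈ A, ∃ b ∈ B, g = a * b

theorem Fac.inter_eq_bot {A B : Subgroup G} (F : Fac G A B) : A ⊓ B = ⊥ := by
  have := F.fin
  have := F.zgroup
  have := F.cyclic
  rw [eq_bot_iff]
  intro x hx
  have hle : normalClosure ({x} : Set G) ≤ B := by
    rw [normalClosure, closure_le]
    intro y hy
    obtain ⟨x', hx', hconj⟩ := Group.mem_conjugatesOfSet_iff.1 hy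
    rw [Set.mem_singleton_iff.1 hx'] at hconj
    obtain ⟨c, rfl⟩ := isConj_iff.1 hconj
    obtain ⟨a, ha, b, hb, e⟩ := F.prod c⁻¹
    let _ : CommGroup A := IsCyclic.commGroup
    have hc : a * x = x * a := congrArg Subtype.val (mul_comm (⟨a, ha⟩ : A) ⟨x, hx.1⟩)
    have e' : c = b⁻¹ * a⁻¹ := by rw [← inv_inv c, e, mul_inv_rev]
    have hax : a⁻¹ * x * a = x := by rw [mul_assoc, ← hc, inv_mul_cancel_left]
    have : c * x * c⁻¹ = b⁻¹ * x * b := by
      rw [e', mul_inv_rev, inv_inv, inv_inv]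
      calc b⁻¹ * a⁻¹ * x * (a * b) = b⁻¹ * (a⁻¹ * x * a) * b := by group
        _ = _ := by rw [hax]
    rw [this]
    exact B.mul_mem (B.mul_mem (B.inv_mem hb) hx.2) hb
  have hs : Group.IsSolvable (normalClosure ({x} : Set G)) :=
    Group.isSolvable_of_isSolvable_injective (inclusion_injective hle)
  have := subset_normalClosure (Set.mem_singleton x)
  rw [F.radical _ normalClosure_normal hs] at this
  exact this

theorem Fac.faithful {A B : Subgroup G} (F : Fac G A B) : FaithfulSMul G (G ⧸ B) := by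
  have := F.fin
  have := F.zgroup
  have hc : B.normalCore = ⊥ := F.radical _ (normalCore_normal B)
    (Group.isSolvable_of_isSolvable_injective (inclusion_injective B.normalCore_le))
  refine ⟨fun {g₁ g₂} h => ?_⟩
  have : g₁⁻¹ * g₂ ∈ (MulAction.toPermHom G (G ⧸ B)).ker := Equiv.ext fun x => by
    show (g₁⁻¹ * g₂) • x = x
    rw [mul_smul, ← h, inv_smul_smul]
  rw [← normalCore_eq_ker, hc, mem_bot] at this
  exact inv_mul_eq_one.1 this

theorem Fac.transitive {A B : Subgroup G} (F : Fac G A B) (x y : G ⧸ B) : ∃ a ∈ A, a • x = y := by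
  have key : ∀ z : G ⧸ B, ∃ a ∈ A, a • ((1 : G) : G ⧸ B) = z := fun z => by
    obtain ⟨g, rfl⟩ := QuotientGroup.mk_surjective z
    obtain ⟨a, ha, b, hb, rfl⟩ := F.prod g
    refine ⟨a, ha, ?_⟩
    show ((a * 1 : G) : G ⧸ B) = _
    rw [QuotientGroup.eq, mul_one, inv_mul_cancel_left]
    exact hb
  obtain ⟨a, ha, rfl⟩ := key x
  obtain ⟨c, hc, rfl⟩ := key y
  exact ⟨c * a⁻¹, A.mul_mem hc (A.inv_mem ha), by rw [mul_smul, inv_smul_smul]⟩

theorem Fac.card {A B : Subgroup G} (F : Fac G A B) : Nat.card A = Nat.card (G ⧸ B) := by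
  refine Nat.card_congr (Equiv.ofBijective (fun a : A => ((a : G) : G ⧸ B)) ⟨fun a a' e => ?_, fun z => ?_⟩)
  · have h : ((a : G))⁻¹ * a' ∈ A ⊓ B := ⟨A.mul_mem (A.inv_mem a.2) a'.2, QuotientGroup.eq.1 e⟩
    rw [F.inter_eq_bot, mem_bot] at h
    exact Subtype.ext (inv_mul_eq_one.1 h)
  · obtain ⟨g, rfl⟩ := QuotientGroup.mk_surjective z
    obtain ⟨a, ha, b, hb, rfl⟩ := F.prod g
    exact ⟨⟨a, ha⟩, QuotientGroup.eq.2 (by rw [inv_mul_cancel_left]; exact hb)⟩

/-- The degree is even and at least four. -/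
theorem Fac.degree {A B : Subgroup G} (F : Fac G A B) :
    Even (Nat.card (G ⧸ B)) ∧ 4 ≤ Nat.card (G ⧸ B) := by
  have := F.fin
  have := F.zgroup
  have : Fact (Nat.Prime 2) := ⟨Nat.prime_two⟩
  have heven : Even (Nat.card (G ⧸ B)) := by
    by_contra hne
    rw [even_iff_two_dvd] at hne
    apply F.nonsolvable
    obtain ⟨Q⟩ := (inferInstance : Nonempty (Sylow 2 B))
    have hc : Nat.card ((Q : Subgroup B).map B.subtype) = 2 ^ (Nat.card G).factorization 2 := by
      rw [← Nat.card_congr ((Q : Subgroup B).equivMapOfInjective _ B.subtype_injective).toEquiv, Q.card_eq_multiplicity,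
        Subgroup.card_eq_card_quotient_mul_card_subgroup B,
        Nat.factorization_mul Nat.card_pos.ne' Nat.card_pos.ne', Finsupp.add_apply,
        Nat.factorization_eq_zero_of_not_dvd hne, zero_add]
    refine isSolvable_of_cyclic_two (Sylow.ofCard _ hc) ?_
    have : IsCyclic (Q : Subgroup B) := inferInstance
    exact ((Q : Subgroup B).equivMapOfInjective _ B.subtype_injective).isCyclic.1 this
  refine ⟨heven, ?_⟩
  obtain ⟨k, hk⟩ := heven
  have : 0 < Nat.card (G ⧸ B) := Nat.card_pos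
  by_contra h4
  have h2 : B.index = 2 := by rw [Subgroup.index_eq_card]; omega
  apply F.nonsolvable
  have := Subgroup.normal_of_index_eq_two h2
  have : IsCyclic (G ⧸ B) := isCyclic_of_prime_card (p := 2) (by rw [← Subgroup.index_eq_card, h2])
  let _ : CommGroup (G ⧸ B) := IsCyclic.commGroup
  exact Group.isSolvable_of_ker_le_range B.subtype (QuotientGroup.mk' B) (by rw [QuotientGroup.ker_mk', Subgroup.range_subtype])

/-- A maximal second factor gives a two-transitive action. -/
theorem Fac.cz_of_coatom {A B : Subgroup G} (F : Fac G A B) (hB : IsCoatom B) : CZ G (G ⧸ B) := by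
  classical
  have := F.fin
  have := F.faithful
  have := F.zgroup
  have := F.cyclic
  obtain ⟨heven, h4⟩ := F.degree
  have hsz : Nat.card A = Nat.card (G ⧸ B) := F.card
  refine ⟨inferInstance, ?_, ⟨A, F.cyclic, F.transitive⟩, fun x => ?_, heven, h4⟩
  · obtain ⟨⟨g, hgA⟩, hgen⟩ := F.cyclic.exists_generator
    have : NeZero (Nat.card (G ⧸ B)) := ⟨by omega⟩
    have hord : orderOf g = Nat.card (G ⧸ B) := by
      rw [← hsz, ← orderOf_eq_card_of_forall_mem_zpowers hgen, Subgroup.orderOf_mk]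
    have hinj : ∀ i < Nat.card (G ⧸ B), ∀ j < Nat.card (G ⧸ B),
        g ^ i • ((1 : G) : G ⧸ B) = g ^ j • ((1 : G) : G ⧸ B) → i = j := by
      intro i hi j hj e
      refine pow_injOn_Iio_orderOf (hord ▸ hi) (hord ▸ hj) (inv_mul_eq_one.1 ?_)
      have hm : (g ^ i)⁻¹ * g ^ j ∈ A ⊓ B := by
        refine ⟨A.mul_mem (A.inv_mem (pow_mem hgA _)) (pow_mem hgA _), ?_⟩
        have e' : ((g ^ i * 1 : G) : G ⧸ B) = ((g ^ j * 1 : G) : G ⧸ B) := e
        rw [mul_one, mul_one] at e'
        exact QuotientGroup.eq.1 e'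
      rwa [F.inter_eq_bot, mem_bot] at hm
    rcases CfsgLib.Perm.CyclicRegular.two_pretransitive_or_invariant g rfl (hord ▸ pow_orderOf_eq_one g)
      ((1 : G) : G ⧸ B) hinj Nat.prime_two (even_iff_two_dvd.1 heven) (by omega) with h | ⟨e, -, D, hD1, hD2, hD⟩
    · exact h
    · exfalso
      apply CfsgLib.Perm.CyclicRegular.not_isPreprimitive_of_invariant e hD1 hD2 hD
      have : Nontrivial (G ⧸ B) := Finite.one_lt_card_iff_nontrivial.1 (by omega)
      rw [← isCoatom_stabilizer_iff_preprimitive G ((1 : G) : G ⧸ B), stabilizer_quotient]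
      exact hB
  · obtain ⟨g, rfl⟩ := QuotientGroup.mk_surjective x
    have e : stabilizer G ((g : G) : G ⧸ B) = B.map (MulAut.conj g).toMonoidHom := by
      have h : ((g : G) : G ⧸ B) = g • ((1 : G) : G ⧸ B) := by
        show _ = ((g * 1 : G) : G ⧸ B); rw [mul_one]
      rw [h, stabilizer_smul_eq_stabilizer_map_conj, stabilizer_quotient]
    rw [e]
    exact IsZGroup.of_surjective ((MulAut.conj g).toMonoidHom.subgroupMap_surjective B)

/-- The point stabiliser of a CZ group is maximal. -/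
theorem coatom_of_cz {B : Subgroup G} (S : CZ G (G ⧸ B)) : IsCoatom B := by
  have := S.finite
  have : Nontrivial (G ⧸ B) := Finite.one_lt_card_iff_nontrivial.1 (by have := S.four; omega)
  have := isPreprimitive_of_is_two_pretransitive S.two
  have h := (isCoatom_stabilizer_iff_preprimitive G ((1 : G) : G ⧸ B)).2 this
  rwa [stabilizer_quotient] at h

end CfsgLib.Perm.CyclicZStab
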