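import Cfsg.Agent.Lib.Perm.CyclicZStab.Reduce
import Cfsg.Agent.S0730

/-!
# Non-solvable cyclic-times-Z-group factorisations give `PGL(2, p)`
-/

set_option autoImplicit false

namespace CfsgLib.Perm.CyclicZStab

open MulAction Subgroup

universe u

variable {G : Type u} [Group G]

theorem Fac.iso_pgl [Finite G] {A B : Subgroup G} (F : Fac G A B) :
    ∃ (K : Type) (_ : Field K) (_ : Fintype K) (p : ℕ), p.Prime ∧ 3 < p ∧ Fintype.card K = p ∧
      Nonempty (G ≃* (GL (Fin 2) K ⧸ Subgroup.center (GL (Fin 2) K))) := by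
  classical
  have := F.zgroup
  have := F.faithful
  have S := F.cz
  have SS := CZ.sharp S
  have := Fintype.ofFinite (G ⧸ B)
  obtain ⟨D, p, hp, hn, -, -, -, -, -, -⟩ := S.point_data ((1 : G) : G ⧸ B)
  have hp3 : 3 < p := by
    by_contra h
    have h4 : Nat.card (G ⧸ B) = 4 := by have := S.four; omega
    exact F.nonsolvable (isSolvable_of_faithful_four h4)
  have hp2 : p ≠ 2 := by omega
  let φ := MulAction.toPermHom G (G ⧸ B)
  have hφ : Function.Injective φ := MulAction.toPerm_injective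
  have hsm : ∀ (g : G) (x : G ⧸ B), (φ.rangeRestrict g) • x = g • x := fun g x => rfl
  have h3 : IsMultiplyPretransitive φ.range (G ⧸ B) 3 := by
    refine ⟨fun e e' => ?_⟩
    have n01 : ∀ {v : Fin 3 ↪ G ⧸ B} {i j : Fin 3}, i ≠ j → v i ≠ v j := fun {v i j} h => v.injective.ne h
    obtain ⟨g, g0, g1⟩ := S.map_pair (n01 (v := e) (i := 0) (j := 1) (by decide))
      (n01 (v := e') (i := 0) (j := 1) (by decide))
    obtain ⟨h, hh, h2⟩ := SS.map_third (c := g • e 2) (d := e' 2) (n01 (v := e') (i := 0) (j := 1) (by decide))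
      (fun h => n01 (v := e) (i := 2) (j := 0) (by decide) (smul_left_cancel g (h.trans g0.symm)))
      (fun h => n01 (v := e) (i := 2) (j := 1) (by decide) (smul_left_cancel g (h.trans g1.symm)))
      (n01 (by decide)) (n01 (by decide))
    refine ⟨φ.rangeRestrict (h * g), DFunLike.ext _ _ fun i => ?_⟩
    show φ.rangeRestrict (h * g) • e i = e' i
    rw [hsm, mul_smul]
    fin_cases i
    · show h • g • e 0 = e' 0
      rw [g0]; exact hh.1
    · show h • g • e 1 = e' 1
      rw [g1]; exact hh.2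
    · exact h2
  have hsharp : ∀ x : Fin 3 ↪ G ⧸ B, stabilizer φ.range x = ⊥ := by
    intro x
    rw [eq_bot_iff]
    rintro ⟨_, g, rfl⟩ hg
    have hgi : ∀ i, g • x i = x i := fun i => congrArg (fun e : Fin 3 ↪ G ⧸ B => e i) (mem_stabilizer_iff.1 hg)
    refine mem_bot.2 (Subtype.ext ?_)
    show φ g = 1
    rw [SS.three g (x 0) (x 1) (x 2) (x.injective.ne (by decide)) (x.injective.ne (by decide))
      (x.injective.ne (by decide)) (hgi 0) (hgi 1) (hgi 2), map_one]
  obtain ⟨K, iK, iKF, hK, ⟨e⟩⟩ := Cfsg.Agent.S0730.result (α := G ⧸ B) hp hp2 odd_one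
    (by rw [pow_one, ← Nat.card_eq_fintype_card]; exact hn) φ.range h3 hsharp
  exact ⟨K, iK, iKF, p, hp, hp3, hK.trans (pow_one p), ⟨(MonoidHom.ofInjective hφ).trans e⟩⟩

/-- **S3252**. -/
theorem chz_cyclic_times_z [Finite G] (hG : ¬ Group.IsSolvable G) (A B : Subgroup G) (hA : IsCyclic A)
    (hB : ∀ (q : ℕ) [Fact q.Prime] (Q : Sylow q B), IsCyclic (Q : Subgroup B))
    (hAB : ∀ g : G, ∃ a ∈ A, ∃ b ∈ B, g = a * b) (R : Subgroup G) [R.Normal] (hRs : Group.IsSolvable R)
    (hRmax : ∀ N : Subgroup G, N.Normal → Group.IsSolvable N → N ≤ R) :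
    ∃ (F : Type) (_ : Field F) (_ : Fintype F) (p : ℕ), p.Prime ∧ 3 < p ∧ Fintype.card F = p ∧
      Nonempty ((G ⧸ R) ≃* (GL (Fin 2) F ⧸ Subgroup.center (GL (Fin 2) F))) := by
  have : IsZGroup B := ⟨fun q hq P => @hB q ⟨hq⟩ P⟩
  let q := QuotientGroup.mk' R
  have F : Fac (G ⧸ R) (A.map q) (B.map q) := by
    refine ⟨inferInstance, fun h => hG ?_, fun N hN hNs => ?_, ?_, ?_, fun g => ?_⟩
    · have := h
      have := hRs
      exact (Group.isSolvable_iff_subgroup_quotient R).mpr ⟨inferInstance, inferInstance⟩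
    · have hle : R ≤ N.comap q := fun r hr => by
        show q r ∈ N
        rw [show q r = 1 from (QuotientGroup.eq_one_iff r).2 hr]; exact N.one_mem
      have hs : Group.IsSolvable (N.comap q) := by
        have := hRs
        have := hNs
        refine Group.isSolvable_of_ker_le_range (inclusion hle) (q.subgroupComap N) fun x hx => ?_
        exact ⟨⟨x, (QuotientGroup.eq_one_iff (x : G)).1 (congrArg Subtype.val hx)⟩, rfl⟩
      have h1 := hRmax _ (hN.comap q) hs
      rw [eq_bot_iff]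
      intro x hx
      obtain ⟨g, rfl⟩ := QuotientGroup.mk'_surjective R x
      exact mem_bot.2 ((QuotientGroup.eq_one_iff g).2 (h1 hx))
    · exact isCyclic_of_surjective _ (q.subgroupMap_surjective A)
    · exact IsZGroup.of_surjective (q.subgroupMap_surjective B)
    · obtain ⟨g, rfl⟩ := QuotientGroup.mk'_surjective R g
      obtain ⟨a, ha, b, hb, rfl⟩ := hAB g
      exact ⟨q a, mem_map_of_mem q ha, q b, mem_map_of_mem q hb, map_mul q a b⟩
  exact F.iso_pgl

end CfsgLib.Perm.CyclicZStab
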