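import Cfsg.Agent.Lib.Perm.CyclicZStab.Orbit

/-!
# Elements fixing three points are trivial
-/

set_option autoImplicit false

namespace CfsgLib.Perm.CyclicZStab

open MulAction Subgroup

universe u

/-- The induction hypothesis: smaller groups are sharply 3-transitive. -/
def SharpBelow (n : ℕ) : Prop :=
  ∀ (K : Type u) (X : Type u) [Group K] [MulAction K X], CZ K X → Nat.card X < n → Sharp K X

variable {G Ω : Type u} [Group G] [MulAction G Ω]

theorem card_fixSub_conj (g x : G) :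
    Nat.card ↥(fixSub (Ω := Ω) (g * x * g⁻¹)) = Nat.card ↥(fixSub (Ω := Ω) x) :=
  Nat.card_congr
    { toFun := fun p => ⟨g⁻¹ • (p : Ω), by
        have h : (g * x * g⁻¹) • (p : Ω) = p := p.2
        show x • g⁻¹ • (p : Ω) = g⁻¹ • (p : Ω)
        rw [eq_inv_smul_iff, ← mul_smul, ← mul_smul]
        exact h⟩
      invFun := fun p => ⟨g • (p : Ω), conj_smul_eq p.2 rfl⟩
      left_inv := fun p => Subtype.ext (smul_inv_smul _ _)
      right_inv := fun p => Subtype.ext (inv_smul_smul _ _) }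

theorem card_fixSub_eq {x y : G} (h : zpowers x = zpowers y) :
    Nat.card ↥(fixSub (Ω := Ω) x) = Nat.card ↥(fixSub (Ω := Ω) y) :=
  Nat.card_congr (Equiv.subtypeEquivRight fun p => smul_eq_iff_of_zpowers_eq h p)

/-- Transport of an element to a given pair. -/
theorem CZ.conj_card (S : CZ G Ω) {x : G} {a b c d : Ω} (hab : a ≠ b) (hcd : c ≠ d) (ha : x • a = a)
    (hb : x • b = b) {y : G} (hyc : y • c = c) (hyd : y • d = d) (ho : orderOf y = orderOf x) :
    Nat.card ↥(fixSub (Ω := Ω) y) = Nat.card ↥(fixSub (Ω := Ω) x) := by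
  obtain ⟨g, -, -, gc, gd, go⟩ := S.conj_fix hab hcd ha hb
  rw [card_fixSub_eq (S.zpowers_eq hcd hyc hyd gc gd (ho.trans go.symm)), card_fixSub_conj]

theorem CZ.exists_moved (S : CZ G Ω) {x : G} (hx : x ≠ 1) : ∃ p : Ω, x • p ≠ p := by
  have := S.faithful
  by_contra h
  push Not at h
  exact hx (eq_of_smul_eq_smul fun p : Ω => by rw [h p, one_smul])

theorem CZ.card_fix_lt (S : CZ G Ω) {x : G} (hx : x ≠ 1) :
    Nat.card ↥(fixSub (Ω := Ω) x) < Nat.card Ω := by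
  classical
  have := S.finite
  have := Fintype.ofFinite Ω
  obtain ⟨p, hp⟩ := S.exists_moved hx
  rw [Nat.card_eq_fintype_card (α := Ω)]
  refine lt_of_eq_of_lt ?_ (Fintype.card_subtype_lt (p := fun q : Ω => x • q = q) hp)
  rw [← Nat.card_eq_fintype_card]
  rfl

section Steps

variable (S : CZ G Ω) {A : Subgroup G} {t : G} (hA : IsCyclic A) (htA : t ∈ A) (ht2 : t ^ 2 = 1)
  (htf : ∀ x : Ω, t • x ≠ x) (htr : ∀ x y : Ω, ∃ a ∈ A, a • x = y)
  (hcomm : ∀ a ∈ A, ∀ b ∈ A, a * b = b * a)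

include S hA htA ht2 htf htr hcomm

/-- The facts about the group induced on the fixed points used below. -/
theorem image_facts (ih : SharpBelow.{u} (Nat.card Ω)) {x : G} (hx1 : x ≠ 1) {γ : Ω} (hx : x • γ = γ)
    (hxt : x • t • γ = t • γ) (h4 : 4 ≤ Nat.card ↥(fixSub (Ω := Ω) x))
    (htN : t ∈ normalizer (zpowers x : Set G)) :
    Sharp ↥(fixImage (Ω := Ω) x) ↥(fixSub (Ω := Ω) x) ∧
    ∀ a b : ↥(fixSub (Ω := Ω) x), a ≠ b →
      ∃ s : ↥(fixImage (Ω := Ω) x), s ^ 2 = 1 ∧ s • a = b ∧ ∀ p : ↥(fixSub (Ω := Ω) x), s • p ≠ p := by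
  have S' := S.image hA htA ht2 htf htr hcomm hx hxt h4
  have SY := ih _ _ S' (S.card_fix_lt hx1)
  refine ⟨SY, fun a b hab => ?_⟩
  let tb : ↥(fixImage (Ω := Ω) x) :=
    (MulAction.toPermHom ↥(normalizer (zpowers x : Set G)) ↥(fixSub (Ω := Ω) x)).rangeRestrict ⟨t, htN⟩
  have htb2 : tb ^ 2 = 1 := by
    rw [← map_pow, show (⟨t, htN⟩ : ↥(normalizer (zpowers x : Set G))) ^ 2 = 1 from Subtype.ext ht2, map_one]
  have htbf : ∀ p : ↥(fixSub (Ω := Ω) x), tb • p ≠ p := fun p e => htf (p : Ω) (congrArg Subtype.val e)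
  obtain ⟨g, hga, hgb⟩ := S'.map_pair (Ne.symm (htbf a)) hab
  refine ⟨g * tb * g⁻¹, by rw [conj_pow, htb2, mul_one, mul_inv_cancel], ?_, fun p e => htbf (g⁻¹ • p) ?_⟩
  · rw [mul_smul, mul_smul, smul_inv_eq hga, hgb]
  · rw [mul_smul, mul_smul] at e
    exact eq_inv_smul_iff.2 e

set_option maxHeartbeats 1600000 in
/-- An involution fixing two points fixes no further ones. -/
theorem false_of_involution (ih : SharpBelow.{u} (Nat.card Ω)) {z : G} (hz : orderOf z = 2) {γ₀ : Ω}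
    (hz0 : z • γ₀ = γ₀) (hz1' : z • t • γ₀ = t • γ₀) (h4 : 4 ≤ Nat.card ↥(fixSub (Ω := Ω) z)) : False := by
  classical
  have := S.faithful
  have := S.finite
  have := S.finiteGroup
  have := Fintype.ofFinite Ω
  have := Fintype.ofFinite G
  have z2 : z * z = 1 := by rw [← pow_two, ← hz, pow_orderOf_eq_one]
  have hz1 : z ≠ 1 := fun e => by rw [e, orderOf_one] at hz; omega
  have hpair := Ne.symm (htf γ₀)
  obtain ⟨htN, hstable, hev, htrN⟩ := S.block htA ht2 htf htr hcomm hz0 hz1'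
  obtain ⟨SY, hp⟩ := image_facts S hA htA ht2 htf htr hcomm ih hz1 hz0 hz1' h4 htN
  obtain ⟨hall, hconj, hcnt⟩ := SY.fpf_involutions hev h4 hp
  set N := normalizer (zpowers z : Set G) with hN
  set π := (MulAction.toPermHom ↥N ↥(fixSub (Ω := Ω) z)).rangeRestrict with hπdef
  have hπ : ∀ (g : ↥N) (p : ↥(fixSub (Ω := Ω) z)), ((π g • p : ↥(fixSub (Ω := Ω) z)) : Ω) = (g : G) • (p : Ω) :=
    fun g p => rfl
  have hcent : ∀ g ∈ N, g * z = z * g := fun g hg => by
    have h1 : g * z * g⁻¹ ∈ zpowers z := (mem_normalizer_iff.1 hg z).1 (mem_zpowers z)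
    have h2 := S.involution_eq hpair (smul_eq_of_zpowers_le h1 hz0) (smul_eq_of_zpowers_le h1 hz1') hz0 hz1'
      (((MulAut.conj g).orderOf_eq z).trans hz) hz
    exact mul_inv_eq_iff_eq_mul.1 h2
  have hmemN : ∀ g : G, g * z = z * g → g ∈ N := fun g hg => mem_normalizer_zpowers (by
    rw [hg, mul_inv_cancel_right]; exact mem_zpowers z)
  set f := Nat.card ↥(fixSub (Ω := Ω) z) with hf
  -- the involutions commuting with `z`
  set I : Finset G := Finset.univ.filter fun v =>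
    orderOf v = 2 ∧ v ≠ z ∧ v * z = z * v ∧ ∃ p q : Ω, p ≠ q ∧ v • p = p ∧ v • q = q with hI
  have hIsq : ∀ v ∈ I, v * v = 1 := fun v hv => by
    rw [← pow_two, ← (Finset.mem_filter.1 hv).2.1, pow_orderOf_eq_one]
  have hIfix : ∀ v ∈ I, Nat.card ↥(fixSub (Ω := Ω) v) = f := fun v hv => by
    obtain ⟨ho, -, -, p, q, hpq, hp', hq'⟩ := (Finset.mem_filter.1 hv).2
    exact S.conj_card hpair hpq hz0 hz1' hp' hq' (ho.trans hz.symm)
  have hIdis : ∀ v ∈ I, ∀ p : Ω, v • p = p → z • p ≠ p := by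
    intro v hv p hvp hzp
    obtain ⟨ho, hne, hcz, -⟩ := (Finset.mem_filter.1 hv).2
    have hzN : z ∈ normalizer (zpowers v : Set G) := mem_normalizer_zpowers (by
      rw [← hcz, mul_inv_cancel_right]; exact mem_zpowers v)
    obtain ⟨q, hq, hqp⟩ := exists_second_fixed (Ω := ↥(fixSub (Ω := Ω) v)) (by rw [hIfix v hv]; exact hev)
      (g := (⟨z, hzN⟩ : ↥(normalizer (zpowers v : Set G)))) (Subtype.ext (by
        show z ^ 2 = 1
        rw [pow_two, z2])) (a := ⟨p, hvp⟩) (Subtype.ext hzp)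
    have hq1 : z • (q : Ω) = q := congrArg Subtype.val hq
    have hq2 : (q : Ω) ≠ p := fun e => hqp (Subtype.ext e)
    exact hne (S.involution_eq hq2 q.2 hvp hq1 hzp ho hz)
  -- counting the points moved by `z`
  set O : Finset Ω := Finset.univ.filter fun p => z • p ≠ p with hO
  have hv : ∀ p ∈ O, ∃ v ∈ I, v • p = p := by
    intro p hp
    have hzp : z • p ≠ p := (Finset.mem_filter.1 hp).2
    obtain ⟨g, -, -, gp, gq, go⟩ := S.conj_fix hpair (Ne.symm hzp) hz0 hz1'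
    set v := g * z * g⁻¹ with hv
    refine ⟨v, Finset.mem_filter.2 ⟨Finset.mem_univ _, go.trans hz, fun e => hzp (e ▸ gp), ?_, p, z • p,
      Ne.symm hzp, gp, gq⟩, gp⟩
    have zz : z • z • p = p := by rw [← mul_smul, z2, one_smul]
    have h := S.involution_eq (Ne.symm hzp) (conj_smul_eq (g := z) gq zz) (conj_smul_eq (g := z) gp rfl) gp gq
      (((MulAut.conj z).orderOf_eq v).trans (go.trans hz)) (go.trans hz)
    exact (mul_inv_eq_iff_eq_mul.1 h).symm
  choose! vp hvp using hv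
  have hfib : ∀ v ∈ I, (O.filter fun p => vp p = v).card = f := by
    intro v hvI
    rw [← hIfix v hvI, ← Nat.card_eq_finsetCard]
    refine Nat.card_congr (Equiv.subtypeEquivRight fun p => ?_)
    constructor
    · intro h
      obtain ⟨hpO, e⟩ := Finset.mem_filter.1 h
      show v • p = p
      rw [← e]; exact (hvp p hpO).2
    · intro h
      have hzp := hIdis v hvI p h
      have hpO : p ∈ O := Finset.mem_filter.2 ⟨Finset.mem_univ _, hzp⟩
      refine Finset.mem_filter.2 ⟨hpO, ?_⟩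
      obtain ⟨hvpI, hvpp⟩ := hvp p hpO
      obtain ⟨ho, -, hcz, -⟩ := (Finset.mem_filter.1 hvI).2
      obtain ⟨ho', -, hcz', -⟩ := (Finset.mem_filter.1 hvpI).2
      refine S.involution_eq (Ne.symm hzp) hvpp ?_ h ?_ ho' ho
      · rw [← mul_smul, hcz', mul_smul, hvpp]
      · rw [← mul_smul, hcz, mul_smul, h]
  have hOcard : O.card = Nat.card Ω - f := by
    rw [hO, Finset.filter_not, Finset.card_sdiff_of_subset (Finset.filter_subset _ _), Finset.card_univ,
      Nat.card_eq_fintype_card, hf]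
    congr 1
    rw [← Nat.card_eq_finsetCard]
    exact Nat.card_congr (Equiv.subtypeEquivRight fun p => by rw [Finset.mem_filter]; simp [mem_fixSub])
  have hOI : Nat.card Ω - f = I.card * f := by
    rw [← hOcard, Finset.card_eq_sum_card_fiberwise (f := vp) (t := I) (fun p hp => (hvp p hp).1),
      Finset.sum_congr rfl hfib, Finset.sum_const, smul_eq_mul]
  -- the images on the fixed point set
  have := Fintype.ofFinite ↥(fixImage (Ω := Ω) z)
  set SS : Finset ↥(fixImage (Ω := Ω) z) :=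
    Finset.univ.filter (fun s => s ^ 2 = 1 ∧ ∀ p : ↥(fixSub (Ω := Ω) z), s • p ≠ p) with hS'
  have hmemS : ∀ s, s ∈ SS ↔ s ^ 2 = 1 ∧ ∀ p : ↥(fixSub (Ω := Ω) z), s • p ≠ p := fun s => by
    rw [hS', Finset.mem_filter]; simp
  let img : G → ↥(fixImage (Ω := Ω) z) := fun g => if h : g ∈ N then π ⟨g, h⟩ else 1
  have himgN : ∀ g (h : g ∈ N), img g = π ⟨g, h⟩ := fun g h => dif_pos h
  have hIN : ∀ v ∈ I, v ∈ N := fun v hv => hmemN v (Finset.mem_filter.1 hv).2.2.2.1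
  have himgS : ∀ v ∈ I, img v ∈ SS := fun v hv => by
    rw [hmemS, himgN v (hIN v hv)]
    refine ⟨?_, fun p e => hIdis v hv (p : Ω) ?_ p.2⟩
    · rw [← map_pow, show (⟨v, hIN v hv⟩ : ↥N) ^ 2 = 1 from Subtype.ext (by
        show v ^ 2 = 1
        rw [pow_two, hIsq v hv]), map_one]
    · exact (hπ ⟨v, hIN v hv⟩ p).symm.trans (congrArg Subtype.val e)
  -- fibres have at most two elements
  have hle2 : ∀ v ∈ I, ∀ v' ∈ I, img v = img v' → v' = v ∨ v' = v * z := by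
    intro v hv v' hv' e
    set k := v * v' with hk
    have hkfix : ∀ p : ↥(fixSub (Ω := Ω) z), k • (p : Ω) = p := fun p => by
      have h1 := hπ ⟨v, hIN v hv⟩ p
      have h2 := hπ ⟨v', hIN v' hv'⟩ p
      rw [himgN v (hIN v hv), himgN v' (hIN v' hv')] at e
      rw [← e, h1] at h2
      change v • (p : Ω) = v' • (p : Ω) at h2
      rw [hk, mul_smul, ← h2, ← mul_smul, hIsq v hv, one_smul]
    -- `v` commutes with `k`
    let a : ↥(fixSub (Ω := Ω) z) := ⟨γ₀, hz0⟩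
    let b : ↥(fixSub (Ω := Ω) z) := π ⟨v, hIN v hv⟩ • a
    have hab : a ≠ b := fun h => hIdis v hv γ₀ ((hπ ⟨v, hIN v hv⟩ a).symm.trans (congrArg Subtype.val h).symm) hz0
    obtain ⟨c, hca, hcb⟩ := exists_third (show 3 ≤ Nat.card ↥(fixSub (Ω := Ω) z) by omega) a b
    obtain ⟨w, wa, wb, wc, w2, -⟩ := SY.exists_swap_fix hab hca hcb
    obtain ⟨c', hc', hcc⟩ := exists_second_fixed hev w2 wc
    obtain ⟨g, rfl⟩ : ∃ g : ↥N, π g = w := MonoidHom.rangeRestrict_surjective _ w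
    have hg1 : (g : G) • (c : Ω) = c := (hπ g c).symm.trans (congrArg Subtype.val wc)
    have hg2 : (g : G) • (c' : Ω) = c' := (hπ g c').symm.trans (congrArg Subtype.val hc')
    have hcc' : (c : Ω) ≠ c' := fun h => hcc (Subtype.ext h.symm)
    have := S.pair_cyclic hcc'
    let _ : CommGroup ↥(stabilizer G (c : Ω) ⊓ stabilizer G (c' : Ω)) := IsCyclic.commGroup
    have hgk : (g : G) * k = k * g := congrArg Subtype.val
      (mul_comm (⟨(g : G), hg1, hg2⟩ : ↥(stabilizer G (c : Ω) ⊓ stabilizer G (c' : Ω))) ⟨k, hkfix c, hkfix c'⟩)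
    have hga : (g : G) • (a : Ω) = b := (hπ g a).symm.trans (congrArg Subtype.val wa)
    have hgb : (g : G) • (b : Ω) = a := (hπ g b).symm.trans (congrArg Subtype.val wb)
    have hva : v • (a : Ω) = b := (hπ ⟨v, hIN v hv⟩ a).symm
    have hvb : v • (b : Ω) = a := by rw [← hva, ← mul_smul, hIsq v hv, one_smul]
    have hab' : (a : Ω) ≠ b := fun h => hab (Subtype.ext h)
    have := S.pair_cyclic hab'
    let _ : CommGroup ↥(stabilizer G (a : Ω) ⊓ stabilizer G (b : Ω)) := IsCyclic.commGroup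
    have h1 : ((g : G)⁻¹ * v) • (a : Ω) = a := by rw [mul_smul, hva, inv_smul_eq_iff, hga]
    have h2 : ((g : G)⁻¹ * v) • (b : Ω) = b := by rw [mul_smul, hvb, inv_smul_eq_iff, hgb]
    have hgvk : ((g : G)⁻¹ * v) * k = k * ((g : G)⁻¹ * v) := congrArg Subtype.val
      (mul_comm (⟨(g : G)⁻¹ * v, h1, h2⟩ : ↥(stabilizer G (a : Ω) ⊓ stabilizer G (b : Ω))) ⟨k, hkfix a, hkfix b⟩)
    have hvk : v * k = k * v := by
      calc v * k = (g : G) * (((g : G)⁻¹ * v) * k) := by group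
        _ = (g : G) * k * ((g : G)⁻¹ * v) := by rw [hgvk]; group
        _ = k * v := by rw [hgk]; group
    have hv'eq : v' = v * k := by rw [hk, ← mul_assoc, hIsq v hv, one_mul]
    have hk2 : k * k = 1 := by
      have h := hIsq v' hv'
      rw [hv'eq] at h
      calc k * k = (v * v) * (k * k) := by rw [hIsq v hv, one_mul]
        _ = v * (v * k) * k := by group
        _ = v * (k * v) * k := by rw [hvk]
        _ = 1 := by rw [← h]; group
    by_cases hk1 : k = 1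
    · exact Or.inl (by rw [hv'eq, hk1, mul_one])
    · refine Or.inr ?_
      have : Fact (Nat.Prime 2) := ⟨Nat.prime_two⟩
      rw [hv'eq, S.involution_eq hab' (hkfix a) (hkfix b) a.2 b.2 (orderOf_eq_prime (by rw [pow_two, hk2]) hk1) hz]
  -- one involution commuting with `t` on the fixed point set
  let tb : ↥(fixImage (Ω := Ω) z) := π ⟨t, htN⟩
  have htb2 : tb ^ 2 = 1 := by rw [← map_pow, show (⟨t, htN⟩ : ↥N) ^ 2 = 1 from Subtype.ext ht2, map_one]
  have htbf : ∀ p : ↥(fixSub (Ω := Ω) z), tb • p ≠ p := fun p e => htf (p : Ω) (congrArg Subtype.val e)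
  obtain ⟨r, r2, rt, rne, rf⟩ := SY.exists_commuting h4 htb2 htbf hall
  obtain ⟨p₀, hp₀⟩ := S.exists_moved hz1
  obtain ⟨hv0, -⟩ := hvp p₀ (Finset.mem_filter.2 ⟨Finset.mem_univ _, hp₀⟩)
  -- conjugation by the normaliser
  have hconjI : ∀ g : ↥N, ∀ v ∈ I, (g : G) * v * (g : G)⁻¹ ∈ I ∧
      img ((g : G) * v * (g : G)⁻¹) = π g * img v * (π g)⁻¹ := by
    intro g v hv
    obtain ⟨ho, hne, hcz, p, q, hpq, hp', hq'⟩ := (Finset.mem_filter.1 hv).2
    have hgz := hcent g g.2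
    have hgz' : (g : G)⁻¹ * z = z * (g : G)⁻¹ := hcent _ (inv_mem g.2)
    have hcz' : (g : G) * v * (g : G)⁻¹ * z = z * ((g : G) * v * (g : G)⁻¹) := by
      calc (g : G) * v * (g : G)⁻¹ * z = (g : G) * v * (z * (g : G)⁻¹) := by rw [mul_assoc, hgz']
        _ = (g : G) * (v * z) * (g : G)⁻¹ := by group
        _ = (g : G) * z * v * (g : G)⁻¹ := by rw [hcz]; group
        _ = _ := by rw [hgz]; group
    refine ⟨Finset.mem_filter.2 ⟨Finset.mem_univ _, ((MulAut.conj (g : G)).orderOf_eq v).trans ho, fun e => hne ?_,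
      hcz', (g : G) • p, (g : G) • q, fun e => hpq (smul_left_cancel _ e), conj_smul_eq hp' rfl, conj_smul_eq hq' rfl⟩, ?_⟩
    · calc v = (g : G)⁻¹ * ((g : G) * v * (g : G)⁻¹) * g := by group
        _ = (g : G)⁻¹ * (z * g) := by rw [e, mul_assoc]
        _ = z := by rw [← hgz]; group
    · rw [himgN _ (hmemN _ hcz'), himgN v (hIN v hv), ← map_inv, ← map_mul, ← map_mul]
      rfl
  obtain ⟨g₀, hg₀⟩ := hconj _ r ((hmemS _).1 (himgS _ hv0)).1 ((hmemS _).1 (himgS _ hv0)).2 r2 rf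
  obtain ⟨g₀, rfl⟩ : ∃ g : ↥N, π g = g₀ := MonoidHom.rangeRestrict_surjective _ g₀
  set v₁ := (g₀ : G) * vp p₀ * (g₀ : G)⁻¹ with hv₁
  obtain ⟨hv₁I, hv₁img⟩ := hconjI g₀ _ hv0
  rw [hg₀] at hv₁img
  set v₂ := t * v₁ * t⁻¹ with hv₂
  obtain ⟨hv₂I, hv₂img⟩ := hconjI ⟨t, htN⟩ v₁ hv₁I
  rw [hv₁img, show π ⟨t, htN⟩ = tb from rfl, ← rt, mul_inv_cancel_right] at hv₂img
  have hv12 : v₁ ≠ v₂ := by
    intro e
    obtain ⟨ho, -, hcz, p, q, hpq, hp', -⟩ := (Finset.mem_filter.1 hv₁I).2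
    have hvt : v₁ * t = t * v₁ := by
      have e' : v₁ = t * v₁ * t⁻¹ := e
      conv_lhs => rw [e']
      group
    have hp'' : v₁ • t • p = t • p := by rw [← mul_smul, hvt, mul_smul, hp']
    obtain ⟨a, ha, hap⟩ := htr γ₀ p
    have hat : a • t • γ₀ = t • p := by rw [← mul_smul, hcomm a ha t htA, mul_smul, hap]
    have hv1eq : v₁ = a * z * a⁻¹ := S.involution_eq (Ne.symm (htf p)) hp' hp'' (conj_smul_eq hz0 hap)
      (conj_smul_eq hz1' hat) ho (((MulAut.conj a).orderOf_eq z).trans hz)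
    have hvfix : z • v₁ • γ₀ = v₁ • γ₀ := by rw [← mul_smul, ← hcz, mul_smul, hz0]
    obtain ⟨b, hb, hbN, hbγ⟩ := htrN γ₀ (v₁ • γ₀) hz0 hvfix
    have hbz := hcent b hbN
    have hcv : ∀ c ∈ A, c * z = z * c → c * v₁ = v₁ * c := by
      intro c hc hcz'
      have hca : c * a = a * c := hcomm c hc a ha
      have hca' : a⁻¹ * c = c * a⁻¹ := hcomm a⁻¹ (inv_mem ha) c hc
      rw [hv1eq]
      calc c * (a * z * a⁻¹) = (c * a) * z * a⁻¹ := by group
        _ = a * (c * z) * a⁻¹ := by rw [hca]; group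
        _ = a * z * (c * a⁻¹) := by rw [hcz']; group
        _ = _ := by rw [← hca']; group
    have hbb : b • b • γ₀ = γ₀ := by
      rw [hbγ, ← mul_smul, hcv b hb hbz, mul_smul, hbγ, ← mul_smul, hIsq v₁ hv₁I, one_smul]
    have hb2 : b ^ 2 = 1 := by
      refine eq_of_smul_eq_smul fun y : Ω => ?_
      obtain ⟨c, hc, rfl⟩ := htr γ₀ y
      rw [one_smul, ← mul_smul, hcomm _ (pow_mem hb 2) c hc, mul_smul, pow_two, mul_smul, hbb]
    have hb1 : b ≠ 1 := fun e' => hIdis v₁ hv₁I γ₀ (by rw [← hbγ, e', one_smul]) hz0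
    have hbt : b = t := by
      have := Fintype.ofFinite A
      by_contra hbt
      have hsub : ({1, ⟨t, htA⟩, ⟨b, hb⟩} : Finset A) ⊆ Finset.univ.filter fun x => x ^ 2 = 1 := by
        intro x hx
        simp only [Finset.mem_insert, Finset.mem_singleton] at hx
        rcases hx with rfl | rfl | rfl <;> simp [Subtype.ext_iff, ht2, hb2]
      have ht1 : t ≠ 1 := fun e' => htf γ₀ (by rw [e', one_smul])
      have h3 : ({1, ⟨t, htA⟩, ⟨b, hb⟩} : Finset A).card = 3 :=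
        Finset.card_eq_three.2 ⟨_, _, _, by simp [Subtype.ext_iff, Ne.symm ht1], by simp [Subtype.ext_iff, Ne.symm hb1],
          by simp [Subtype.ext_iff, Ne.symm hbt], rfl⟩
      have := (Finset.card_le_card hsub).trans (IsCyclic.card_pow_eq_one_le two_pos)
      omega
    apply rne
    refine eq_of_smul_eq_smul fun q : ↥(fixSub (Ω := Ω) z) => Subtype.ext ?_
    obtain ⟨c, hc, hcN, hcq⟩ := htrN γ₀ q hz0 q.2
    rw [← hv₁img, himgN v₁ (hIN v₁ hv₁I), hπ, hπ]
    show v₁ • (q : Ω) = t • (q : Ω)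
    rw [← hcq, ← mul_smul, ← hcv c hc (hcent c hcN), mul_smul, ← hbγ, ← mul_smul, hcomm c hc b hb, mul_smul, hbt]
  -- every fibre has exactly two elements
  have hfib2 : ∀ s ∈ SS, (I.filter fun v => img v = s).card = 2 := by
    intro s hs
    obtain ⟨s2, sf⟩ := (hmemS s).1 hs
    obtain ⟨g, hg⟩ := hconj r s r2 rf s2 sf
    obtain ⟨g, rfl⟩ : ∃ g' : ↥N, π g' = g := MonoidHom.rangeRestrict_surjective _ g
    obtain ⟨hA1, hA1'⟩ := hconjI g v₁ hv₁I
    obtain ⟨hA2, hA2'⟩ := hconjI g v₂ hv₂I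
    rw [hv₁img, hg] at hA1'
    rw [hv₂img, hg] at hA2'
    rw [Finset.card_eq_two]
    refine ⟨(g : G) * v₁ * (g : G)⁻¹, (g : G) * v₂ * (g : G)⁻¹, fun e => hv12 (by simpa using e), ?_⟩
    ext v
    simp only [Finset.mem_filter, Finset.mem_insert, Finset.mem_singleton]
    constructor
    · rintro ⟨hv, hvs⟩
      rcases hle2 _ hA1 v hv (hA1'.trans hvs.symm) with h | h
      · exact Or.inl h
      · rcases hle2 _ hA1 _ hA2 (hA1'.trans hA2'.symm) with h' | h'
        · exact absurd h'.symm (fun e => hv12 (by simpa using e))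
        · exact Or.inr (h.trans h'.symm)
    · rintro (rfl | rfl)
      · exact ⟨hA1, hA1'⟩
      · exact ⟨hA2, hA2'⟩
  have hScard : SS.card = Nat.card {s : ↥(fixImage (Ω := Ω) z) // s ^ 2 = 1 ∧ ∀ p : ↥(fixSub (Ω := Ω) z), s • p ≠ p} := by
    rw [← Nat.card_eq_finsetCard]
    exact Nat.card_congr (Equiv.subtypeEquivRight hmemS)
  have hIcard : I.card = (f - 1) * (f - 2) := by
    rw [← hcnt, ← hScard, Finset.card_eq_sum_card_fiberwise (f := img) (t := SS) himgS, Finset.sum_congr rfl hfib2,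
      Finset.sum_const, smul_eq_mul, mul_comm]
  refine S.false_of_cube hpair hz hz0 hz1' h4 ?_ hev
  show Nat.card Ω - 1 = (f - 1) ^ 3
  have hfn : f < Nat.card Ω := S.card_fix_lt hz1
  rw [hIcard] at hOI
  obtain ⟨j, hj⟩ : ∃ j, f = j + 2 := ⟨f - 2, by omega⟩
  rw [hj] at hOI hfn ⊢
  have hn : Nat.card Ω = (j + 2 - 1) * (j + 2 - 2) * (j + 2) + (j + 2) := by omega
  rw [hn, show j + 2 - 1 = j + 1 by omega, show j + 2 - 2 = j by omega,
    show (j + 1) * j * (j + 2) + (j + 2) - 1 = (j + 1) * j * (j + 2) + (j + 1) by omega]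
  ring

set_option maxHeartbeats 1600000 in
/-- An element of odd order fixing two points fixes no further ones. -/
theorem false_of_odd (ih : SharpBelow.{u} (Nat.card Ω))
    (hinv : ∀ v : G, orderOf v = 2 → ∀ a b c : Ω, a ≠ b → b ≠ c → a ≠ c →
      v • a = a → v • b = b → v • c = c → False)
    {x : G} (hxo : (orderOf x).Prime) {γ₀ : Ω}
    (hx : x • γ₀ = γ₀) (hxt : x • t • γ₀ = t • γ₀) (h4 : 4 ≤ Nat.card ↥(fixSub (Ω := Ω) x)) : False := by
  classical
  have := S.faithful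
  have := S.finite
  have := S.finiteGroup
  have : Fact (Nat.Prime 2) := ⟨Nat.prime_two⟩
  have hx1 : x ≠ 1 := fun e => by rw [e, orderOf_one] at hxo; exact Nat.not_prime_one hxo
  have hpair := Ne.symm (htf γ₀)
  obtain ⟨htN, hstable, hev, htrN⟩ := S.block htA ht2 htf htr hcomm hx hxt
  obtain ⟨SY, hp⟩ := image_facts S hA htA ht2 htf htr hcomm ih hx1 hx hxt h4 htN
  obtain ⟨-, hconj, -⟩ := SY.fpf_involutions hev h4 hp
  set N := normalizer (zpowers x : Set G) with hN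
  set π := (MulAction.toPermHom ↥N ↥(fixSub (Ω := Ω) x)).rangeRestrict with hπdef
  have hπ : ∀ (g : ↥N) (p : ↥(fixSub (Ω := Ω) x)), ((π g • p : ↥(fixSub (Ω := Ω) x)) : Ω) = (g : G) • (p : Ω) :=
    fun g p => rfl
  obtain ⟨z, hz, hz0, hz1'⟩ := S.exists_involution hpair
  have z2 : z * z = 1 := by rw [← pow_two, ← hz, pow_orderOf_eq_one]
  have hzonly : ∀ p : Ω, z • p = p → p = γ₀ ∨ p = t • γ₀ := fun p hp' => by
    by_contra hcon
    push Not at hcon
    exact hinv z hz γ₀ (t • γ₀) p hpair (Ne.symm hcon.2) (Ne.symm hcon.1) hz0 hz1' hp'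
  obtain ⟨γ, hγ⟩ := S.exists_moved hx1
  have hzγ : z • γ ≠ γ := fun e => by
    rcases hzonly γ e with rfl | rfl
    · exact hγ hx
    · exact hγ hxt
  obtain ⟨g, hga, hgb, gc, gd, go⟩ := S.conj_fix hpair (Ne.symm hzγ) hx hxt
  set y := g * x * g⁻¹ with hy
  have zz : z • z • γ = γ := by rw [← mul_smul, z2, one_smul]
  have hzN : z ∈ normalizer (zpowers y : Set G) := mem_normalizer_zpowers (by
    rw [← S.zpowers_eq (Ne.symm hzγ) (conj_smul_eq gd zz) (conj_smul_eq gc rfl) gc gd ((MulAut.conj z).orderOf_eq y)]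
    exact mem_zpowers _)
  have hfy : Nat.card ↥(fixSub (Ω := Ω) y) = Nat.card ↥(fixSub (Ω := Ω) x) := card_fixSub_conj g x
  -- `z` moves every fixed point of `y`
  have hzy : ∀ p : Ω, y • p = p → z • p ≠ p := by
    intro p hp' hzp
    obtain ⟨q, hq, hqp⟩ := exists_second_fixed (Ω := ↥(fixSub (Ω := Ω) y)) (by rw [hfy]; exact hev)
      (g := (⟨z, hzN⟩ : ↥(normalizer (zpowers y : Set G)))) (Subtype.ext (by
        show z ^ 2 = 1
        rw [pow_two, z2])) (a := ⟨p, hp'⟩) (Subtype.ext hzp)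
    have hq1 : z • (q : Ω) = q := congrArg Subtype.val hq
    have hq2 : (q : Ω) ≠ p := fun e => hqp (Subtype.ext e)
    have hboth : y • γ₀ = γ₀ ∧ y • t • γ₀ = t • γ₀ := by
      rcases hzonly p hzp with e | e <;> rcases hzonly q hq1 with e' | e'
      · exact absurd (e'.trans e.symm) hq2
      · exact ⟨e ▸ hp', e' ▸ q.2⟩
      · exact ⟨e' ▸ q.2, e ▸ hp'⟩
      · exact absurd (e'.trans e.symm) hq2
    exact hγ ((smul_eq_iff_of_zpowers_eq (S.zpowers_eq hpair hboth.1 hboth.2 hx hxt go) γ).1 gc)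
  -- a conjugate of `z` normalising `⟨x⟩`
  set w := g⁻¹ * z * g with hw
  have hwx : w * x * w⁻¹ ∈ zpowers x := by
    obtain ⟨i, hi⟩ := mem_zpowers_iff.1 ((mem_normalizer_iff.1 hzN y).1 (mem_zpowers y))
    refine mem_zpowers_iff.2 ⟨i, ?_⟩
    have e : w * x * w⁻¹ = g⁻¹ * (z * y * z⁻¹) * g := by rw [hw, hy]; group
    rw [e, ← hi, hy, conj_zpow]
    group
  have hwN : w ∈ N := mem_normalizer_zpowers hwx
  have hw2 : w ^ 2 = 1 := by
    have : w * w = g⁻¹ * (z * z) * g := by rw [hw]; group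
    rw [pow_two, this, z2, mul_one, inv_mul_cancel]
  have hwf : ∀ p : ↥(fixSub (Ω := Ω) x), π ⟨w, hwN⟩ • p ≠ p := by
    intro p e
    have e' : (g⁻¹ * z * g) • (p : Ω) = p := (hπ ⟨w, hwN⟩ p).symm.trans (congrArg Subtype.val e)
    rw [mul_smul, mul_smul, inv_smul_eq_iff] at e'
    exact hzy (g • (p : Ω)) (conj_smul_eq p.2 rfl) e'
  let tb : ↥(fixImage (Ω := Ω) x) := π ⟨t, htN⟩
  have htb2 : tb ^ 2 = 1 := by rw [← map_pow, show (⟨t, htN⟩ : ↥N) ^ 2 = 1 from Subtype.ext ht2, map_one]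
  have htbf : ∀ p : ↥(fixSub (Ω := Ω) x), tb • p ≠ p := fun p e => htf (p : Ω) (congrArg Subtype.val e)
  obtain ⟨h, hh⟩ := hconj (π ⟨w, hwN⟩) tb (by
    rw [← map_pow, show (⟨w, hwN⟩ : ↥N) ^ 2 = 1 from Subtype.ext hw2, map_one]) hwf htb2 htbf
  obtain ⟨h, rfl⟩ : ∃ h' : ↥N, π h' = h := MonoidHom.rangeRestrict_surjective _ h
  set w₁ := (h : G) * w * (h : G)⁻¹ with hw₁
  have hw₁2 : w₁ * w₁ = 1 := by rw [← pow_two, hw₁, conj_pow, hw2, mul_one, mul_inv_cancel]
  set k := t * w₁ with hk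
  have tt : t * t = 1 := by rw [← pow_two, ht2]
  have hkfix : ∀ p : ↥(fixSub (Ω := Ω) x), k • (p : Ω) = p := fun p => by
    rw [← map_inv, ← map_mul, ← map_mul] at hh
    have h1 := hπ (h * ⟨w, hwN⟩ * h⁻¹) p
    rw [hh] at h1
    have h2 := hπ ⟨t, htN⟩ p
    rw [show π ⟨t, htN⟩ = tb from rfl, h1] at h2
    change w₁ • (p : Ω) = t • (p : Ω) at h2
    rw [hk, mul_smul, h2, ← mul_smul, tt, one_smul]
  have hkodd : ¬ 2 ∣ orderOf k := by
    intro h2
    have ho := orderOf_pow_orderOf_div (orderOf_pos k).ne' h2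
    have hfix : ∀ p : ↥(fixSub (Ω := Ω) x), (k ^ (orderOf k / 2)) • (p : Ω) = p := fun p =>
      smul_eq_of_zpowers_le (pow_mem (mem_zpowers k) _) (hkfix p)
    obtain ⟨c, hca, hcb⟩ := exists_third (show 3 ≤ Nat.card ↥(fixSub (Ω := Ω) x) by omega)
      ⟨γ₀, hx⟩ ⟨t • γ₀, hxt⟩
    exact hinv _ ho γ₀ (t • γ₀) (c : Ω) hpair (fun e => hcb (Subtype.ext e.symm)) (fun e => hca (Subtype.ext e.symm))
      (hfix ⟨γ₀, hx⟩) (hfix ⟨t • γ₀, hxt⟩) (hfix c)
  obtain ⟨j, hj⟩ := Nat.odd_iff.2 (Nat.two_dvd_ne_zero.1 hkodd) |>.exists_bit1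
  set d := k ^ (j + 1) with hd
  have hd2 : d * d = k := by
    rw [hd, ← pow_add, show j + 1 + (j + 1) = (2 * j + 1) + 1 by ring, pow_succ, ← hj, pow_orderOf_eq_one, one_mul]
  have htk : t * k * t = k⁻¹ := by
    rw [hk, mul_inv_rev, ← mul_assoc, tt, one_mul, inv_eq_of_mul_eq_one_right hw₁2, inv_eq_of_mul_eq_one_right tt]
  have htd : t * d * t = d⁻¹ := by
    have h1 : MulAut.conj t k = k⁻¹ := by rw [MulAut.conj_apply, inv_eq_of_mul_eq_one_right tt, htk]
    have h2 := map_pow (MulAut.conj t) k (j + 1)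
    rw [h1, MulAut.conj_apply, inv_eq_of_mul_eq_one_right tt, inv_pow, ← hd] at h2
    exact h2
  have hw₁eq : w₁ = d⁻¹ * t * d := by
    rw [← htd, show t * d * t * t * d = t * d * (t * t) * d by group, tt, mul_one, mul_assoc, hd2, hk, ← mul_assoc,
      tt, one_mul]
  have hfp : w₁ • ((h : G) • g⁻¹ • γ₀) = (h : G) • g⁻¹ • γ₀ :=
    conj_smul_eq (by rw [hw, mul_smul, mul_smul, smul_inv_smul, hz0]) rfl
  rw [hw₁eq, mul_smul, mul_smul, inv_smul_eq_iff] at hfp
  exact htf _ hfp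

end Steps

/-- No non-trivial element fixes three points. -/
theorem CZ.three (S : CZ G Ω) (ih : SharpBelow.{u} (Nat.card Ω)) :
    ∀ g : G, ∀ a b c : Ω, a ≠ b → b ≠ c → a ≠ c → g • a = a → g • b = b → g • c = c → g = 1 := by
  classical
  have := S.faithful
  have := S.finite
  have := S.finiteGroup
  obtain ⟨A, g₁, hg₁, t, htA, hAg, ht2, htf, htr, hcomm, hreg, -⟩ := S.exists_translations
  have hA : IsCyclic A := hAg ▸ inferInstance
  obtain ⟨γ₀⟩ : Nonempty Ω := (Nat.card_pos_iff.1 (by have := S.four; omega)).1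
  -- elements of prime order
  have key : ∀ x : G, ∀ a b c : Ω, a ≠ b → b ≠ c → a ≠ c → x • a = a → x • b = b → x • c = c →
      ∃ y : G, orderOf y = orderOf x ∧ y • γ₀ = γ₀ ∧ y • t • γ₀ = t • γ₀ ∧
        4 ≤ Nat.card ↥(fixSub (Ω := Ω) y) := by
    intro x a b c hab hbc hac ha hb hc
    obtain ⟨g, -, -, g1, g2, go⟩ := S.conj_fix hab (Ne.symm (htf γ₀)) ha hb
    refine ⟨_, go, g1, g2, ?_⟩
    obtain ⟨-, -, hev, -⟩ := S.block htA ht2 htf htr hcomm g1 g2
    rw [card_fixSub_conj] at hev ⊢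
    have h3 : 3 ≤ Nat.card ↥(fixSub (Ω := Ω) x) := by
      have := Fintype.ofFinite ↥(fixSub (Ω := Ω) x)
      rw [Nat.card_eq_fintype_card]
      have hsub : ({⟨a, ha⟩, ⟨b, hb⟩, ⟨c, hc⟩} : Finset ↥(fixSub (Ω := Ω) x)).card = 3 :=
        Finset.card_eq_three.2 ⟨_, _, _, fun e => hab (congrArg Subtype.val e), fun e => hac (congrArg Subtype.val e),
          fun e => hbc (congrArg Subtype.val e), rfl⟩
      exact hsub ▸ Finset.card_le_univ _
    obtain ⟨j, hj⟩ := hev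
    omega
  have hinv : ∀ v : G, orderOf v = 2 → ∀ a b c : Ω, a ≠ b → b ≠ c → a ≠ c →
      v • a = a → v • b = b → v • c = c → False := fun v hv a b c hab hbc hac ha hb hc => by
    obtain ⟨y, yo, y1, y2, y4⟩ := key v a b c hab hbc hac ha hb hc
    exact false_of_involution S hA htA ht2 htf htr hcomm ih (yo.trans hv) y1 y2 y4
  intro g a b c hab hbc hac ha hb hc
  by_contra hg
  obtain ⟨q, hq, hqd⟩ := Nat.exists_prime_and_dvd (mt orderOf_eq_one_iff.1 hg)
  have ho := orderOf_pow_orderOf_div (orderOf_pos g).ne' hqd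
  have hm : ∀ p : Ω, g • p = p → g ^ (orderOf g / q) • p = p := fun p hp =>
    smul_eq_of_zpowers_le (pow_mem (mem_zpowers g) _) hp
  by_cases h2 : q = 2
  · exact hinv _ (ho.trans h2) a b c hab hbc hac (hm a ha) (hm b hb) (hm c hc)
  · obtain ⟨y, yo, y1, y2, y4⟩ := key _ a b c hab hbc hac (hm a ha) (hm b hb) (hm c hc)
    rw [ho] at yo
    exact false_of_odd S hA htA ht2 htf htr hcomm ih hinv (yo ▸ hq) y1 y2 y4

end CfsgLib.Perm.CyclicZStab
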