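import Cfsg.Agent.Lib.Perm.CyclicZStab.Induction
import Cfsg.Agent.S0741

/-!
# Two-transitive groups with a regular cyclic subgroup and Z-group point stabilisers
are sharply 3-transitive of degree `p + 1`
-/

set_option autoImplicit false

namespace CfsgLib.Perm.CyclicZStab

open MulAction Subgroup

universe u

variable {G Ω : Type u} [Group G] [MulAction G Ω]

/-- No regular normal subgroup for degree at least six. -/
theorem CZ.no_regular_normal (S : CZ G Ω)
    (h3 : ∀ g : G, ∀ a b c : Ω, a ≠ b → b ≠ c → a ≠ c → g • a = a → g • b = b → g • c = c → g = 1)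
    (h6 : 6 ≤ Nat.card Ω) (N : Subgroup G) (hN : N.Normal) (htr : IsPretransitive N Ω) :
    ∃ a : Ω, stabilizer N a ≠ ⊥ := by
  classical
  have := S.faithful
  have := S.finite
  have := S.finiteGroup
  by_contra hno
  push Not at hno
  obtain ⟨a⟩ : Nonempty Ω := (Nat.card_pos_iff.1 (by omega)).1
  have hbij : Function.Bijective fun u : N => (u : G) • a := by
    refine ⟨fun u v e => ?_, fun y => ?_⟩
    · have h : u⁻¹ * v ∈ stabilizer N a := by
        rw [mem_stabilizer_iff, Subgroup.smul_def, Subgroup.coe_mul, Subgroup.coe_inv, mul_smul]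
        simp only at e
        rw [← e, inv_smul_smul]
      rw [hno a, mem_bot] at h
      exact inv_mul_eq_one.1 h
    · obtain ⟨u, hu⟩ := htr.exists_smul_eq a y
      exact ⟨u, hu⟩
  let e := Equiv.ofBijective _ hbij
  have hcardN : Nat.card N = Nat.card Ω := Nat.card_congr e
  -- all non trivial elements are conjugate
  have hord : ∀ u v : N, u ≠ 1 → v ≠ 1 → orderOf u = orderOf v := by
    intro u v hu hv
    have hu' : (u : G) • a ≠ a := fun h => hu (hbij.1 (by simpa using h))
    have hv' : (v : G) • a ≠ a := fun h => hv (hbij.1 (by simpa using h))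
    obtain ⟨g, hga, hgu⟩ := S.map_pair (Ne.symm hu') (Ne.symm hv')
    have h : (⟨g * (u : G) * g⁻¹, hN.conj_mem _ u.2 g⟩ : N) = v := hbij.1 (by
      show (g * (u : G) * g⁻¹) • a = (v : G) • a
      rw [mul_smul, mul_smul, smul_inv_eq hga, hgu])
    rw [← h, ← Subgroup.orderOf_coe, ← Subgroup.orderOf_coe]
    exact ((MulAut.conj g).orderOf_eq (u : G)).symm
  have : Fact (Nat.Prime 2) := ⟨Nat.prime_two⟩
  obtain ⟨u₂, hu₂⟩ := exists_prime_orderOf_dvd_card' (G := N) 2 (hcardN ▸ even_iff_two_dvd.1 S.even)
  have hexp : ∀ u : N, u * u = 1 := fun u => by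
    by_cases hu : u = 1
    · rw [hu, mul_one]
    · rw [← pow_two, ← hu₂, hord u₂ u (fun h => by rw [h, orderOf_one] at hu₂; omega) hu, pow_orderOf_eq_one]
  have hab : ∀ u v : N, u * v = v * u := fun u v => by
    have h := inv_eq_of_mul_eq_one_right (hexp (u * v))
    rw [mul_inv_rev, inv_eq_of_mul_eq_one_right (hexp u), inv_eq_of_mul_eq_one_right (hexp v)] at h
    exact h.symm
  obtain ⟨b, hb⟩ : ∃ b : Ω, b ≠ a := (exists_third (by omega) a a).imp fun _ h => h.1
  obtain ⟨z, hz, hza, hzb⟩ := S.exists_involution (Ne.symm hb)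
  have z2 : z * z = 1 := by rw [← pow_two, ← hz, pow_orderOf_eq_one]
  have zinv : z⁻¹ = z := inv_eq_of_mul_eq_one_right z2
  have hzN : ∀ u : N, z * (u : G) * z ∈ N := fun u => by
    have := hN.conj_mem _ u.2 z
    rwa [zinv] at this
  let φ : N →* N := MonoidHom.mk' (fun u => u * ⟨z * (u : G) * z, hzN u⟩) fun u v => by
    have e : (⟨z * ((u * v : N) : G) * z, hzN (u * v)⟩ : N) = ⟨z * (u : G) * z, hzN u⟩ * ⟨z * (v : G) * z, hzN v⟩ :=
      Subtype.ext (by
        show z * ((u : G) * v) * z = z * u * z * (z * v * z)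
        calc z * ((u : G) * v) * z = z * u * (z * z) * v * z := by rw [z2]; group
          _ = _ := by group)
    let _ : CommGroup N := { (inferInstance : Group N) with mul_comm := hab }
    rw [e, mul_mul_mul_comm]
  have hfixed : ∀ u : N, z * (u : G) * z = u → (u : G) • a = a ∨ (u : G) • a = b := by
    intro u hu
    have hfix : z • (u : G) • a = (u : G) • a := by
      conv_lhs => rw [← hu]
      rw [← mul_smul, show z * (z * (u : G) * z) = (z * z) * u * z by group, z2, one_mul, mul_smul, hza]
    by_contra hcon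
    push Not at hcon
    have hz1 := h3 z a b _ (Ne.symm hb) (Ne.symm hcon.2) (Ne.symm hcon.1) hza hzb hfix
    rw [hz1, orderOf_one] at hz
    omega
  have hsmall : ∀ s : Set N, (∀ u ∈ s, z * (u : G) * z = u) → s.ncard ≤ 2 := fun s hs => by
    calc s.ncard ≤ ((fun u : N => (u : G) • a) ⁻¹' {a, b}).ncard :=
          Set.ncard_le_ncard (fun u hu => hfixed u (hs u hu)) (Set.toFinite _)
      _ ≤ ({a, b} : Set Ω).ncard := by rw [Set.ncard_preimage_of_injective_subset_range hbij.1 (fun x _ => hbij.2 x)]
      _ ≤ 2 := (Set.ncard_insert_le _ _).trans (by simp)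
  have h1 : Nat.card φ.ker ≤ 2 := by
    show Nat.card (φ.ker : Set N) ≤ 2
    rw [Nat.card_coe_set_eq]
    refine hsmall _ fun u hu => ?_
    have h' : u * ⟨z * (u : G) * z, hzN u⟩ = u * u := (hu : φ u = 1).trans (hexp u).symm
    exact congrArg Subtype.val (mul_left_cancel h')
  have h2 : Nat.card φ.range ≤ 2 := by
    show Nat.card (φ.range : Set N) ≤ 2
    rw [Nat.card_coe_set_eq]
    refine hsmall _ ?_
    rintro _ ⟨u, rfl⟩
    show z * ((u : G) * (z * u * z)) * z = (u : G) * (z * u * z)
    have hc : ((u : G)) * (z * u * z) = (z * u * z) * u := congrArg Subtype.val (hab u ⟨z * (u : G) * z, hzN u⟩)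
    calc z * ((u : G) * (z * u * z)) * z = (z * u * z) * u * (z * z) := by group
      _ = _ := by rw [z2, mul_one, hc]
  have h := φ.ker.card_mul_index
  rw [Subgroup.index_ker] at h
  have := Nat.mul_le_mul h1 h2
  omega

/-- The main theorem. -/
theorem CZ.sharp : ∀ {G Ω : Type u} [Group G] [MulAction G Ω], CZ G Ω → Sharp G Ω := by
  suffices h : ∀ (n : ℕ) (G Ω : Type u) [Group G] [MulAction G Ω], CZ G Ω → Nat.card Ω = n → Sharp G Ω from
    fun {G Ω} _ _ S => h _ G Ω S rfl
  intro n
  induction n using Nat.strong_induction_on with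
  | _ n ih =>
    intro G Ω _ _ S hn
    classical
    have := S.faithful
    have := S.finite
    have := S.finiteGroup
    have := Fintype.ofFinite Ω
    have h3 := S.three (fun K X _ _ S' hlt => ih _ (hn ▸ hlt) K X S' rfl)
    refine ⟨inferInstance, S.two, h3, fun a b hab => ?_, fun a b hab => S.pair_cyclic hab⟩
    set H := stabilizer G a ⊓ stabilizer G b with hH
    obtain ⟨z, hz, hza, hzb⟩ := S.exists_involution hab
    have heven : 2 ∣ Nat.card H :=
      hz ▸ Subgroup.orderOf_mk z (show z ∈ H from ⟨hza, hzb⟩) ▸ orderOf_dvd_natCard (⟨z, hza, hzb⟩ : H)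
    obtain ⟨j, hj⟩ := S.card_pair_dvd h3 hab
    rw [← hH] at hj
    have h4 := S.four
    have hle : Nat.card Ω - 2 ≤ 2 * Nat.card H := by
      by_cases h6 : 6 ≤ Nat.card Ω
      · rw [Nat.card_eq_fintype_card (α := Ω)]
        refine Cfsg.Agent.S0741.result ⟨inferInstance, S.two, h3, ⟨z, fun e => ?_, a, b, hab, hza, hzb⟩,
          fun N hN htr => S.no_regular_normal h3 h6 N hN htr⟩ hab (even_iff_two_dvd.2 heven)
        rw [e, orderOf_one] at hz
        omega
      · have := Nat.card_pos (α := H)
        obtain ⟨i, hi⟩ := heven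
        omega
    have hHpos := Nat.card_pos (α := H)
    have hj2 : j ≤ 2 := Nat.le_of_mul_le_mul_left (by linarith) hHpos
    interval_cases j
    · omega
    · omega
    · exfalso
      refine S.false_of_half h3 fun c d hcd => ?_
      obtain ⟨g, hga, hgb⟩ := S.map_pair hab hcd
      have e : (stabilizer G c ⊓ stabilizer G d) = H.map (MulAut.conj g).toMonoidHom := by
        rw [hH, ← hga, ← hgb, stabilizer_smul_eq_stabilizer_map_conj, stabilizer_smul_eq_stabilizer_map_conj,
          Subgroup.map_inf _ _ _ (MulAut.conj g).injective]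
      rw [e, ← Nat.card_congr (H.equivMapOfInjective _ (MulAut.conj g).injective).toEquiv]
      omega

end CfsgLib.Perm.CyclicZStab
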