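import Cfsg.Agent.Lib.Perm.CyclicZStab.Parity

/-!
# The derived subgroup of the stabiliser against the centraliser of an involution

If the fixed points of an involution are `f` in number then `n - 1` is not `(f - 1) ^ 3`.
-/

set_option autoImplicit false

namespace CfsgLib.Perm.CyclicZStab

open MulAction Subgroup

variable {G Ω : Type*} [Group G] [MulAction G Ω]

theorem card_eq_orbit_mul {X : Type*} [MulAction G X] [Finite G] (K : Subgroup G) (x : X) :
    Nat.card K = (orbit K x).ncard * Nat.card ↥(K ⊓ stabilizer G x) := by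
  have h := (stabilizer K x).card_mul_index
  rw [index_stabilizer] at h
  have e : Nat.card ↥(stabilizer K x) = Nat.card ↥(K ⊓ stabilizer G x) :=
    Nat.card_congr
      { toFun := fun k => ⟨((k : K) : G), (k : K).2, k.2⟩
        invFun := fun g => ⟨⟨(g : G), g.2.1⟩, g.2.2⟩
        left_inv := fun _ => rfl
        right_inv := fun _ => rfl }
  rw [← h, e, mul_comm]

theorem CZ.false_of_cube (S : CZ G Ω) {z : G} {α β : Ω} (hαβ : α ≠ β) (hz : orderOf z = 2)
    (hzα : z • α = α) (hzβ : z • β = β) (h4 : 4 ≤ Nat.card ↥(fixSub (Ω := Ω) z))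
    (hn : Nat.card Ω - 1 = (Nat.card ↥(fixSub (Ω := Ω) z) - 1) ^ 3)
    (heven : Even (Nat.card ↥(fixSub (Ω := Ω) z))) : False := by
  classical
  have := S.faithful
  have := S.finite
  have := S.finiteGroup
  have := Fintype.ofFinite Ω
  obtain ⟨D, hDle, hDc, hDn, hDcomm, hDfree, hcop⟩ := S.stab_data α
  set B := stabilizer G α with hB
  set C := B ⊓ centralizer ({z} : Set G) with hC
  set H := stabilizer G α ⊓ stabilizer G β with hH
  have z2 : z * z = 1 := by rw [← pow_two, ← hz, pow_orderOf_eq_one]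
  have zinv : z⁻¹ = z := inv_eq_of_mul_eq_one_right z2
  have hz1 : z ≠ 1 := fun e => by rw [e, orderOf_one] at hz; omega
  have := hDc
  let _ : CommGroup D := IsCyclic.commGroup
  have hDab : ∀ x ∈ D, ∀ y ∈ D, x * y = y * x := fun x hx y hy =>
    congrArg Subtype.val (mul_comm (⟨x, hx⟩ : D) ⟨y, hy⟩)
  -- `D` has odd order
  have hDodd : Odd (Nat.card D) := by
    by_contra h
    rw [Nat.not_odd_iff_even, even_iff_two_dvd] at h
    have hodd : ¬ 2 ∣ D.relIndex B := fun h2 => by
      have := Nat.dvd_gcd h h2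
      rw [hcop.gcd_eq_one] at this
      omega
    have : (D.subgroupOf B).Normal := ⟨fun d hd g => hDn g g.2 d hd⟩
    have hpow := Subgroup.pow_index_mem (D.subgroupOf B) (⟨z, hzα⟩ : B)
    obtain ⟨j, hj⟩ := Nat.odd_iff.2 (Nat.two_dvd_ne_zero.1 hodd) |>.exists_bit1
    rw [show (D.subgroupOf B).index = D.relIndex B from rfl, hj, mem_subgroupOf, SubmonoidClass.coe_pow,
      pow_succ, pow_mul, pow_two, z2, one_pow, one_mul] at hpow
    exact hz1 (hDfree z hpow β hαβ.symm hzβ)
  -- every element of the stabiliser is a product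
  have hBDC : ∀ b ∈ B, ∃ d ∈ D, ∃ c ∈ C, b = d * c := by
    intro b hb
    set e := b * z * b⁻¹ * z⁻¹ with he
    have heD : e ∈ D := hDcomm b hb z hzα
    have hinv : z * e * z = e⁻¹ := by
      rw [he, zinv]
      simp only [mul_inv_rev, inv_inv, zinv, mul_assoc, z2, mul_one]
    obtain ⟨j, hj⟩ := hDodd
    have he' : (e ^ (j + 1)) ^ 2 = e := by
      have := congrArg Subtype.val (pow_card_eq_one' (x := (⟨e, heD⟩ : D)))
      rw [SubmonoidClass.coe_pow, hj] at this
      rw [← pow_mul, show (j + 1) * 2 = (2 * j + 1) + 1 by ring, pow_succ e (2 * j + 1)]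
      simpa using this
    have hzd : z * (e ^ (j + 1))⁻¹ = e ^ (j + 1) * z := by
      have h1 : MulAut.conj z (e ^ (j + 1)) = (MulAut.conj z e) ^ (j + 1) := map_pow _ _ _
      rw [MulAut.conj_apply, MulAut.conj_apply, zinv, hinv, inv_pow] at h1
      rw [← h1, ← mul_assoc, ← mul_assoc, z2, one_mul]
    refine ⟨e ^ (j + 1), pow_mem heD _, (e ^ (j + 1))⁻¹ * b, ⟨B.mul_mem (B.inv_mem (B.pow_mem (hDle heD) _)) hb, ?_⟩,
      (mul_inv_cancel_left _ _).symm⟩
    refine mem_centralizer_singleton_iff.2 ?_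
    have hb' : b * z = e * (z * b) := by rw [he]; group
    calc (e ^ (j + 1))⁻¹ * b * z = (e ^ (j + 1))⁻¹ * (e * (z * b)) := by rw [mul_assoc, hb']
      _ = (e ^ (j + 1))⁻¹ * (e ^ (j + 1) * e ^ (j + 1)) * z * b := by rw [← pow_two, he']; group
      _ = e ^ (j + 1) * z * b := by group
      _ = z * (e ^ (j + 1))⁻¹ * b := by rw [hzd]
      _ = z * ((e ^ (j + 1))⁻¹ * b) := by group
  -- orders
  have hHC : H ≤ C := by
    refine le_inf inf_le_left fun h hh => mem_centralizer_singleton_iff.2 ?_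
    have := S.pair_cyclic hαβ
    let _ : CommGroup H := IsCyclic.commGroup
    exact congrArg Subtype.val (mul_comm (⟨h, hh⟩ : H) ⟨z, hzα, hzβ⟩)
  have oB : Nat.card B = (Nat.card Ω - 1) * Nat.card H := by
    have h := card_eq_orbit_mul B β
    have ho : (orbit B β).ncard = Nat.card Ω - 1 := by
      have : orbit B β = {α}ᶜ := by
        ext p
        rw [Set.mem_compl_singleton_iff]
        constructor
        · rintro ⟨g, rfl⟩ e
          exact hαβ (smul_left_cancel (g : G) ((g.2 : (g : G) • α = α).trans e.symm))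
        · intro hp
          obtain ⟨g, hga, hgb⟩ := S.map_pair hαβ (Ne.symm hp)
          exact ⟨⟨g, hga⟩, hgb⟩
      rw [this, Set.ncard_compl, Set.ncard_singleton]
    rw [h, ho]
  have oC : Nat.card C = (Nat.card ↥(fixSub (Ω := Ω) z) - 1) * Nat.card H := by
    have h := card_eq_orbit_mul C β
    have hCH : C ⊓ stabilizer G β = H :=
      le_antisymm (fun g hg => ⟨hg.1.1, hg.2⟩) (le_inf hHC inf_le_right)
    have ho : (orbit C β).ncard = Nat.card ↥(fixSub (Ω := Ω) z) - 1 := by
      have : orbit C β = {p : Ω | z • p = p} \ {α} := by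
        ext p
        rw [Set.mem_sdiff, Set.mem_singleton_iff, Set.mem_ofPred_eq]
        constructor
        · rintro ⟨⟨g, hg, hgz⟩, rfl⟩
          refine ⟨?_, fun e => hαβ (smul_left_cancel g ((hg : g • α = α).trans e.symm))⟩
          show z • g • β = g • β
          rw [← mul_smul, ← mem_centralizer_singleton_iff.1 hgz, mul_smul, hzβ]
        · rintro ⟨hp, hpa⟩
          obtain ⟨g, hga, hgb⟩ := S.map_pair hαβ (Ne.symm hpa)
          have hgz := S.involution_eq (Ne.symm hpa) (conj_smul_eq hzα hga) (conj_smul_eq hzβ hgb) hzα hp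
            (((MulAut.conj g).orderOf_eq z).trans hz) hz
          exact ⟨⟨g, hga, mem_centralizer_singleton_iff.2 (mul_inv_eq_iff_eq_mul.1 hgz)⟩, hgb⟩
      rw [this, Set.ncard_sdiff_singleton_of_mem (show α ∈ {p : Ω | z • p = p} from hzα), ← Nat.card_coe_set_eq]
      rfl
    rw [h, ho, hCH]
  -- the orbit of the coset of `C` under `B` and under `D`
  let x₀ : G ⧸ C := ((1 : G) : G ⧸ C)
  have hst : ∀ g : G, g ∈ stabilizer G x₀ ↔ g ∈ C := fun g => by
    rw [mem_stabilizer_iff]
    show ((g * 1 : G) : G ⧸ C) = ((1 : G) : G ⧸ C) ↔ _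
    rw [mul_one, eq_comm, QuotientGroup.eq]
    simp
  have horb : orbit B x₀ = orbit D x₀ := by
    ext y
    constructor
    · rintro ⟨b, rfl⟩
      obtain ⟨d, hd, c, hc, e⟩ := hBDC b b.2
      refine ⟨⟨d, hd⟩, ?_⟩
      show d • x₀ = (b : G) • x₀
      rw [e, mul_smul, (hst c).2 hc]
    · rintro ⟨d, rfl⟩
      exact ⟨⟨d, hDle d.2⟩, rfl⟩
  have hB2 := card_eq_orbit_mul B x₀
  have hD2 := card_eq_orbit_mul D x₀
  have i1 : B ⊓ stabilizer G x₀ = C := by
    ext g; exact ⟨fun hg => (hst g).1 hg.2, fun hg => ⟨hg.1, (hst g).2 hg⟩⟩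
  have i2 : D ⊓ stabilizer G x₀ = D ⊓ centralizer ({z} : Set G) := by
    ext g
    exact ⟨fun hg => ⟨hg.1, ((hst g).1 hg.2).2⟩, fun hg => ⟨hg.1, (hst g).2 ⟨hDle hg.1, hg.2⟩⟩⟩
  rw [i1] at hB2
  have horb' : (orbit ↥B x₀).ncard = (orbit ↥D x₀).ncard := congrArg Set.ncard horb
  erw [horb'] at hB2
  rw [i2] at hD2
  set o := (orbit D x₀).ncard with ho
  set C₀ := D ⊓ centralizer ({z} : Set G) with hC₀
  change Nat.card ↥D = o * Nat.card ↥C₀ at hD2
  set f := Nat.card ↥(fixSub (Ω := Ω) z) with hf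
  have hHpos : 0 < Nat.card H := Nat.card_pos
  have ho' : o = (f - 1) ^ 2 := by
    have e : (f - 1) ^ 3 * Nat.card H = o * ((f - 1) * Nat.card H) := by rw [← hn, ← oB, hB2, oC]
    have hpos : 0 < (f - 1) * Nat.card H := Nat.mul_pos (by omega) hHpos
    exact Nat.eq_of_mul_eq_mul_right hpos (by rw [← e]; ring)
  -- a prime dividing both
  obtain ⟨q, hq, hqf⟩ := Nat.exists_prime_and_dvd (n := f - 1) (by omega)
  have := Fact.mk hq
  have hq2 : q ≠ 2 := by
    rintro rfl
    obtain ⟨i, hi⟩ := heven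
    omega
  have hqD : q ∣ Nat.card D := by
    rw [hD2, ho']
    exact dvd_mul_of_dvd_left (hqf.trans (dvd_pow_self _ two_ne_zero)) _
  have hqC0 : q ∣ Nat.card C₀ := by
    have hqC : q ∣ Nat.card C := by rw [oC]; exact dvd_mul_of_dvd_left hqf _
    have e1 : Nat.card D * D.relIndex B = Nat.card B := by
      rw [mul_comm, ← Subgroup.relIndex_bot_left, ← Subgroup.relIndex_bot_left, mul_comm,
        Subgroup.relIndex_mul_relIndex ⊥ D B bot_le hDle]
    have e2 : Nat.card C₀ * D.relIndex B = Nat.card C := by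
      rw [hB2, hD2] at e1
      have opos : 0 < o := by rw [ho']; exact pow_pos (by omega) 2
      exact Nat.eq_of_mul_eq_mul_left opos (by rw [← e1]; ring)
    rw [← e2] at hqC
    exact (hq.dvd_mul.1 hqC).resolve_right fun h => hq.ne_one
      (Nat.dvd_one.1 (hcop.gcd_eq_one ▸ Nat.dvd_gcd hqD h))
  obtain ⟨⟨x, hxD, hxz⟩, hx⟩ := exists_prime_orderOf_dvd_card' (G := C₀) q hqC0
  -- the map `d ↦ z d z d⁻¹`
  have hzD : ∀ d : D, z * d * z ∈ D := fun d => by
    have := hDn z hzα d d.2
    rwa [zinv] at this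
  let φ : D →* D := MonoidHom.mk' (fun d => ⟨z * d * z, hzD d⟩ * d⁻¹) fun u v => by
    rw [mul_inv_rev, mul_comm v⁻¹ u⁻¹, mul_mul_mul_comm]
    congr 1
    refine Subtype.ext ?_
    show z * ((u : G) * v) * z = z * u * z * (z * v * z)
    calc z * ((u : G) * v) * z = z * u * (z * z) * v * z := by rw [z2]; group
      _ = _ := by group
  have hφker : φ.ker = C₀.subgroupOf D := by
    ext d
    rw [MonoidHom.mem_ker, mem_subgroupOf]
    constructor
    · intro e
      have e' : z * (d : G) * z = d := congrArg Subtype.val (mul_inv_eq_one.1 e)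
      refine ⟨d.2, mem_centralizer_singleton_iff.2 ?_⟩
      calc (d : G) * z = z * d * z * z := by rw [e']
        _ = z * d := by rw [mul_assoc, z2, mul_one]
    · intro hd
      refine mul_inv_eq_one.2 (Subtype.ext ?_)
      show z * (d : G) * z = d
      rw [mul_assoc, mem_centralizer_singleton_iff.1 hd.2, ← mul_assoc, z2, one_mul]
  have hrange : q ∣ Nat.card φ.range := by
    have h := φ.ker.card_mul_index
    rw [Subgroup.index_ker, hφker, Nat.card_congr (subgroupOfEquivOfLe inf_le_left).toEquiv, hD2, mul_comm o] at h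
    rw [Nat.eq_of_mul_eq_mul_left Nat.card_pos h, ho']
    exact hqf.trans (dvd_pow_self _ two_ne_zero)
  obtain ⟨⟨y, hy⟩, hy'⟩ := exists_prime_orderOf_dvd_card' (G := φ.range) q hrange
  rw [Subgroup.orderOf_mk] at hy'
  have hyinv : z * (y : G) * z = (y : G)⁻¹ := by
    obtain ⟨d, rfl⟩ := hy
    have e : ((φ d : D) : G) = z * (d : G) * z * (d : G)⁻¹ := rfl
    rw [e]
    have : z * (d : G)⁻¹ * z = (z * (d : G) * z)⁻¹ := by simp [mul_inv_rev, zinv, mul_assoc]
    calc z * (z * (d : G) * z * (d : G)⁻¹) * z = (z * z) * d * (z * (d : G)⁻¹ * z) := by group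
      _ = (d : G) * (z * (d : G) * z)⁻¹ := by rw [z2, one_mul, this]
      _ = _ := by simp [mul_inv_rev, mul_assoc]
  have hzp : Subgroup.zpowers y = Subgroup.zpowers (⟨x, hxD⟩ : D) := by
    refine CfsgLib.ClassSizes.Kulakoff.eq_of_card_eq_of_isCyclic ?_
    rw [Nat.card_zpowers, Nat.card_zpowers, hy', ← Subgroup.orderOf_coe]
    rw [← Subgroup.orderOf_coe] at hx
    exact hx.symm
  obtain ⟨i, hi⟩ := mem_zpowers_iff.1 (hzp ▸ Subgroup.mem_zpowers y)
  have hcy : Commute z (y : G) := by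
    rw [← hi, SubgroupClass.coe_zpow]
    exact (show Commute z x from (mem_centralizer_singleton_iff.1 hxz).symm).zpow_right i
  rw [hcy.eq, mul_assoc, z2, mul_one] at hyinv
  have h2 : orderOf y ∣ 2 := orderOf_dvd_of_pow_eq_one (Subtype.ext (by
    rw [SubmonoidClass.coe_pow, pow_two]
    exact mul_eq_one_iff_eq_inv.2 hyinv))
  rw [hy'] at h2
  exact hq2 ((Nat.prime_dvd_prime_iff_eq hq Nat.prime_two).1 h2)

end CfsgLib.Perm.CyclicZStab
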