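import Cfsg.Agent.Lib.Perm.CyclicZStab.Blocks

/-!
# Parity: two point stabilisers have even order
-/

set_option autoImplicit false

namespace CfsgLib.Perm.CyclicZStab

open MulAction Subgroup Equiv

variable {G Ω : Type*} [Group G] [MulAction G Ω]

theorem exists_third [Finite Ω] (h : 3 ≤ Nat.card Ω) (a b : Ω) : ∃ c : Ω, c ≠ a ∧ c ≠ b := by
  classical
  have := Fintype.ofFinite Ω
  have h' : 0 < ({a, b}ᶜ : Finset Ω).card := by
    have := Finset.card_le_two (a := a) (b := b)
    rw [Finset.card_compl, ← Nat.card_eq_fintype_card]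
    omega
  obtain ⟨c, hc⟩ := Finset.card_pos.1 h'
  simp only [Finset.mem_compl, Finset.mem_insert, Finset.mem_singleton, not_or] at hc
  exact ⟨c, hc.1, hc.2⟩

/-- Some two point stabiliser contains an odd permutation. -/
theorem CZ.false_of_sign_trivial [Fintype Ω] [DecidableEq Ω] (S : CZ G Ω)
    (h : ∀ a b : Ω, a ≠ b → ∀ g : G, g • a = a → g • b = b → Perm.sign (MulAction.toPermHom G Ω g) = 1) :
    False := by
  have := S.faithful
  have := S.finiteGroup
  have : Fact (Nat.Prime 2) := ⟨Nat.prime_two⟩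
  let sg : G →* ℤˣ := Perm.sign.comp (MulAction.toPermHom G Ω)
  have hone : ∀ (a : Ω) (g : G), g • a = a → sg g = 1 := by
    intro a g hg
    have ho : orderOf g ≠ 0 := (orderOf_pos g).ne'
    obtain ⟨k, m, hm, hkm⟩ := Nat.exists_eq_pow_mul_and_not_dvd ho 2 (by norm_num)
    have hga : (g ^ m) • a = a := smul_eq_of_zpowers_le (pow_mem (mem_zpowers g) m) hg
    have hσ : (MulAction.toPermHom G Ω (g ^ m)) ^ 2 ^ k = 1 := by
      rw [← map_pow, ← pow_mul, mul_comm m, ← hkm, pow_orderOf_eq_one, map_one]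
    have h2 : 2 ∣ Fintype.card Ω := by
      rw [← Nat.card_eq_fintype_card]; exact even_iff_two_dvd.1 S.even
    obtain ⟨b, hb, hba⟩ := Perm.exists_fixed_point_of_prime' h2 hσ (a := a) hga
    have h1 : sg (g ^ m) = 1 := h a b hba.symm _ hga hb
    rw [map_pow] at h1
    obtain ⟨j, hj⟩ := Nat.odd_iff.2 (Nat.two_dvd_ne_zero.1 hm) |>.exists_bit1
    rwa [hj, pow_succ, pow_mul, Int.units_sq, one_pow, one_mul] at h1
  have hall : ∀ g : G, sg g = 1 := by
    intro g
    obtain ⟨x⟩ : Nonempty Ω := (Nat.card_pos_iff.1 (by have := S.four; omega)).1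
    by_cases hg : g • x = x
    · exact hone x g hg
    obtain ⟨c, hcx, hcy⟩ := exists_third (by have := S.four; omega) x (g • x)
    obtain ⟨m, hmc, hmx⟩ := S.map_pair hcx hcy
    have h1 := hone c m hmc
    have h2 := hone x (m⁻¹ * g) (by rw [mul_smul, ← hmx, inv_smul_smul])
    rwa [map_mul, map_inv, h1, inv_one, one_mul] at h2
  obtain ⟨A, g₁, hg₁, t, htA, hAg, -, htf, htr, -, hreg, -⟩ := S.exists_translations
  set σ := MulAction.toPermHom G Ω g₁ with hσ
  have hmove : ∀ x : Ω, g₁ • x ≠ x := fun x hx => htf x (by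
    have : A = ⊥ := by rw [hAg, zpowers_eq_bot]; exact hreg g₁ hg₁ x hx
    rw [this, mem_bot] at htA
    rw [htA, one_smul])
  have hsupp : σ.support = Finset.univ := Finset.eq_univ_of_forall fun x => Perm.mem_support.2 (hmove x)
  have hcyc : σ.IsCycle := by
    obtain ⟨x⟩ : Nonempty Ω := (Nat.card_pos_iff.1 (by have := S.four; omega)).1
    refine ⟨x, hmove x, fun y _ => ?_⟩
    obtain ⟨a, ha, hay⟩ := htr x y
    rw [hAg] at ha
    obtain ⟨i, rfl⟩ := mem_zpowers_iff.1 ha
    exact ⟨i, by rw [hσ, ← map_zpow]; exact hay⟩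
  have hs : sg g₁ = -1 := by
    show Perm.sign σ = -1
    rw [hcyc.sign, hsupp, Finset.card_univ, ← Nat.card_eq_fintype_card, S.even.neg_one_pow]
  rw [hall] at hs
  exact absurd hs (by decide)

/-- Every pair of points is fixed by an involution. -/
theorem CZ.exists_involution (S : CZ G Ω) {a b : Ω} (hab : a ≠ b) :
    ∃ z : G, orderOf z = 2 ∧ z • a = a ∧ z • b = b := by
  classical
  have := S.faithful
  have := S.finite
  have := S.finiteGroup
  have := Fintype.ofFinite Ω
  by_contra hno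
  push Not at hno
  refine S.false_of_sign_trivial fun c d hcd g hc hd => ?_
  have hodd : ¬ 2 ∣ orderOf g := fun h2 => by
    have ho := orderOf_pow_orderOf_div (orderOf_pos g).ne' h2
    have h1 := smul_eq_of_zpowers_le (pow_mem (mem_zpowers g) (orderOf g / 2)) hc
    have h2 := smul_eq_of_zpowers_le (pow_mem (mem_zpowers g) (orderOf g / 2)) hd
    obtain ⟨k, hka, hkb⟩ := S.map_pair hcd hab
    exact hno _ ((MulAut.conj k).orderOf_eq _ |>.trans ho) (conj_smul_eq h1 hka) (conj_smul_eq h2 hkb)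
  obtain ⟨j, hj⟩ := Nat.odd_iff.2 (Nat.two_dvd_ne_zero.1 hodd) |>.exists_bit1
  have := congrArg (Perm.sign.comp (MulAction.toPermHom G Ω)) (pow_orderOf_eq_one g)
  rw [map_pow, map_one, hj, pow_succ, pow_mul, Int.units_sq, one_pow, one_mul] at this
  exact this

theorem CZ.card_pair_dvd (S : CZ G Ω)
    (h3 : ∀ g : G, ∀ a b c : Ω, a ≠ b → b ≠ c → a ≠ c → g • a = a → g • b = b → g • c = c → g = 1)
    {a b : Ω} (hab : a ≠ b) : Nat.card ↥(stabilizer G a ⊓ stabilizer G b) ∣ Nat.card Ω - 2 := by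
  classical
  have := S.faithful
  have := S.finite
  have := S.finiteGroup
  have := Fintype.ofFinite Ω
  let R : SubMulAction ↥(stabilizer G a ⊓ stabilizer G b) Ω :=
    { carrier := {x | x ≠ a ∧ x ≠ b}
      smul_mem' := fun h x hx => by
        refine ⟨fun e => hx.1 ?_, fun e => hx.2 ?_⟩
        · exact smul_left_cancel (h : G) ((e : (h : G) • x = a).trans h.2.1.symm)
        · exact smul_left_cancel (h : G) ((e : (h : G) • x = b).trans h.2.2.symm) }
  have hstab : ∀ x : ↥R, stabilizer ↥(stabilizer G a ⊓ stabilizer G b) x = ⊥ := fun x => by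
    rw [eq_bot_iff]
    intro h hh
    exact Subtype.ext (h3 h a b x hab (Ne.symm x.2.2) (Ne.symm x.2.1) h.2.1 h.2.2 (congrArg Subtype.val hh))
  have hR : Nat.card ↥R = Nat.card Ω - 2 := by
    have e : Nat.card ↥R = ({a, b}ᶜ : Finset Ω).card := by
      rw [← Nat.card_eq_finsetCard]
      exact Nat.card_congr (Equiv.subtypeEquivRight fun x => by
        show (x ≠ a ∧ x ≠ b) ↔ _
        simp)
    rw [e, Finset.card_compl, Finset.card_pair hab, Nat.card_eq_fintype_card]
  rw [← hR, Nat.card_congr (MulAction.selfEquivSigmaOrbitsQuotientStabilizer ↥(stabilizer G a ⊓ stabilizer G b) ↥R),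
    Nat.card_sigma]
  refine Finset.dvd_sum fun o _ => ?_
  rw [← Subgroup.index_eq_card, hstab, Subgroup.index_bot]

/-- In a group without non-trivial elements fixing three points, half size stabilisers are even. -/
theorem CZ.false_of_half (S : CZ G Ω)
    (h3 : ∀ g : G, ∀ a b c : Ω, a ≠ b → b ≠ c → a ≠ c → g • a = a → g • b = b → g • c = c → g = 1)
    (hc : ∀ a b : Ω, a ≠ b → 2 * Nat.card ↥(stabilizer G a ⊓ stabilizer G b) = Nat.card Ω - 2) : False := by
  classical
  have := S.faithful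
  have := S.finite
  have := S.finiteGroup
  have := Fintype.ofFinite Ω
  refine S.false_of_sign_trivial fun a b hab g hga hgb => ?_
  set σ := MulAction.toPermHom G Ω g with hσ
  by_cases hg : g = 1
  · rw [hσ, hg, map_one, map_one]
  have hord : orderOf σ = orderOf g := orderOf_injective _ MulAction.toPerm_injective g
  have hmem : ∀ l ∈ σ.cycleType, l = orderOf g := by
    intro l hl
    obtain ⟨c, τ, hσc, hdis, hcyc, hcard⟩ := Perm.mem_cycleType_iff.1 hl
    obtain ⟨x, hx⟩ := hcyc.nonempty_support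
    have hxσ : x ∈ σ.support := by rw [hσc, hdis.support_mul]; exact Finset.mem_union_left _ hx
    have hgx : g • x ≠ x := Perm.mem_support.1 hxσ
    have hfix : (σ ^ l) x = x := by
      rw [hσc, hdis.commute.mul_pow, Perm.mul_apply]
      have hτ : τ x = x := (hdis x).resolve_left (Perm.mem_support.1 hx)
      rw [Perm.pow_apply_eq_self_of_apply_eq_self hτ, ← hcard, ← hcyc.orderOf, pow_orderOf_eq_one, Perm.one_apply]
    rw [hσ, ← map_pow] at hfix
    have h1 := h3 (g ^ l) a b x hab (fun e => hgx (e ▸ hgb)) (fun e => hgx (e ▸ hga))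
      (smul_eq_of_zpowers_le (pow_mem (mem_zpowers g) l) hga)
      (smul_eq_of_zpowers_le (pow_mem (mem_zpowers g) l) hgb) hfix
    exact Nat.dvd_antisymm (hord ▸ Perm.dvd_of_mem_cycleType hl) (orderOf_dvd_of_pow_eq_one h1)
  have hsupp : σ.support = {a, b}ᶜ := by
    ext x
    simp only [Perm.mem_support, Finset.mem_compl, Finset.mem_insert, Finset.mem_singleton, not_or]
    refine ⟨fun hx => ⟨fun e => hx (e ▸ hga), fun e => hx (e ▸ hgb)⟩, fun hx e => hg ?_⟩
    exact h3 g a b x hab (Ne.symm hx.2) (Ne.symm hx.1) hga hgb e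
  have hsum := σ.sum_cycleType
  rw [Multiset.eq_replicate_card.2 hmem, Multiset.sum_replicate, smul_eq_mul, hsupp, Finset.card_compl,
    Finset.card_pair hab, ← Nat.card_eq_fintype_card, ← hc a b hab] at hsum
  obtain ⟨j, hj⟩ : orderOf g ∣ Nat.card ↥(stabilizer G a ⊓ stabilizer G b) :=
    Subgroup.orderOf_mk g (show g ∈ stabilizer G a ⊓ stabilizer G b from ⟨hga, hgb⟩) ▸ orderOf_dvd_natCard _
  have hk : σ.cycleType.card = 2 * j := by
    rw [hj] at hsum
    exact Nat.eq_of_mul_eq_mul_left (orderOf_pos g) (by linarith)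
  rw [Perm.sign_of_cycleType, Multiset.eq_replicate_card.2 hmem, Multiset.sum_replicate, Multiset.card_replicate,
    smul_eq_mul, hk]
  exact Even.neg_one_pow ⟨j * orderOf g + j, by ring⟩

end CfsgLib.Perm.CyclicZStab
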