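import Cfsg.Agent.Lib.Perm.CyclicZStab.Factor

/-!
# The second factor is maximal
-/

set_option autoImplicit false

namespace CfsgLib.Perm.CyclicZStab

open MulAction Subgroup

universe u

theorem isSolvable_of_faithful_four {K X : Type u} [Group K] [MulAction K X] [FaithfulSMul K X] [Finite X]
    (h : Nat.card X = 4) : Group.IsSolvable K := by
  have := CfsgLib.Classical.Dickson.isSolvable_perm_four
  let e : X ≃ Fin 4 := (Finite.equivFin X).trans (finCongr h)
  exact Group.isSolvable_of_isSolvable_injective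
    (f := e.permCongrHom.toMonoidHom.comp (MulAction.toPermHom K X))
    (e.permCongrHom.injective.comp MulAction.toPerm_injective)

variable {G : Type u} [Group G]

/-- Conjugation action on the subgroups of order `p` of a normal subgroup. -/
@[reducible] def conjOnSigma (M : Subgroup G) [hM : M.Normal] (p : ℕ) :
    MulAction G {P : Subgroup G // P ≤ M ∧ Nat.card P = p} where
  smul g P := ⟨P.1.map (MulAut.conj g).toMonoidHom, by
      rintro _ ⟨x, hx, rfl⟩
      exact hM.conj_mem x (P.2.1 hx) g,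
    (Nat.card_congr (P.1.equivMapOfInjective _ (MulAut.conj g).injective).toEquiv).symm.trans P.2.2⟩
  one_smul P := Subtype.ext (by
    show P.1.map _ = P.1
    rw [map_one]
    exact Subgroup.map_id _)
  mul_smul g h P := Subtype.ext (by
    show P.1.map _ = (P.1.map _).map _
    rw [Subgroup.map_map, map_mul]
    rfl)

set_option maxHeartbeats 1600000 in
/-- The second factor is a maximal subgroup. -/
theorem Fac.coatom : ∀ {G : Type u} [Group G] {A B : Subgroup G}, Fac G A B → IsCoatom B := by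
  suffices h : ∀ (n : ℕ) (G : Type u) [Group G] (A B : Subgroup G), Fac G A B → Nat.card G = n → IsCoatom B from
    fun {G} _ {A B} F => h _ G A B F rfl
  intro n
  induction n using Nat.strong_induction_on with
  | _ n ih =>
    intro G _ A B F hn
    classical
    have := F.fin
    have := F.zgroup
    have := F.cyclic
    have := F.faithful
    by_contra hnot
    have hBtop : B ≠ ⊤ := fun h => by
      have := F.degree.2
      rw [← Subgroup.index_eq_card, h, index_top] at this
      omega
    obtain ⟨K, hK, hBK⟩ := (eq_top_or_exists_le_coatom B).resolve_left hBtop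
    have hne : B ≠ K := fun h => hnot (h ▸ hK)
    have hprodK : ∀ k ∈ K, ∃ a ∈ A ⊓ K, ∃ b ∈ B, k = a * b := fun k hk => by
      obtain ⟨a, ha, b, hb, rfl⟩ := F.prod k
      exact ⟨a, ⟨ha, (K.mul_mem_cancel_right (hBK hb)).1 hk⟩, b, hb, rfl⟩
    -- the core of `K` is not trivial
    set M := K.normalCore with hM
    have hMne : M ≠ ⊥ := by
      intro hMb
      apply hne
      refine le_antisymm hBK fun k hk => ?_
      obtain ⟨a, ⟨ha, haK⟩, b, hb, rfl⟩ := hprodK k hk
      let _ : CommGroup A := IsCyclic.commGroup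
      have : a ∈ K.normalCore := by
        intro g
        obtain ⟨c, hc, d, hd, e⟩ := F.prod g⁻¹
        have hg : g = d⁻¹ * c⁻¹ := by rw [← inv_inv g, e, mul_inv_rev]
        have hca : c⁻¹ * a * c = a := by
          rw [mul_assoc, show a * c = c * a from congrArg Subtype.val (mul_comm (⟨a, ha⟩ : A) ⟨c, hc⟩),
            inv_mul_cancel_left]
        have : g * a * g⁻¹ = d⁻¹ * a * d := by
          rw [hg, mul_inv_rev, inv_inv, inv_inv]
          calc d⁻¹ * c⁻¹ * a * (c * d) = d⁻¹ * (c⁻¹ * a * c) * d := by group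
            _ = _ := by rw [hca]
        rw [this]
        exact K.mul_mem (K.mul_mem (K.inv_mem (hBK hd)) haK) (hBK hd)
      rw [show K.normalCore = ⊥ from hMb, mem_bot] at this
      rw [this, one_mul]
      exact hb
    have hMns : ¬ Group.IsSolvable M := fun h => hMne (F.radical M inferInstance h)
    have hKns : ¬ Group.IsSolvable K := fun h =>
      hMns (Group.isSolvable_of_isSolvable_injective (inclusion_injective K.normalCore_le))
    obtain ⟨R, hRn, hRs, hRmax⟩ := exists_radical K
    let MK := M.subgroupOf K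
    have hMR : MK ⊓ R = ⊥ := by
      have hsol : Group.IsSolvable ↥(MK ⊓ R) := Group.isSolvable_of_isSolvable_injective (inclusion_injective inf_le_right)
      let N := ((MK ⊓ R).map K.subtype).subgroupOf M
      have hNn : N.Normal := ⟨fun x hx m => by
        obtain ⟨k, ⟨hk1, hk2⟩, e⟩ := hx
        refine ⟨⟨m, K.normalCore_le m.2⟩ * k * ⟨m, K.normalCore_le m.2⟩⁻¹, ⟨?_, hRn.conj_mem k hk2 _⟩, ?_⟩
        · exact (inferInstance : MK.Normal).conj_mem k hk1 _
        · show (m : G) * (k : G) * (m : G)⁻¹ = (m : G) * (x : G) * (m : G)⁻¹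
          have e' : (k : G) = (x : G) := e
          rw [e']⟩
      have hle : (MK ⊓ R).map K.subtype ≤ M := by
        rintro _ ⟨k, hk, rfl⟩
        exact hk.1
      have hNs : Group.IsSolvable N := by
        have h1 : Group.IsSolvable ↥((MK ⊓ R).map K.subtype) :=
          Group.isSolvable_of_surjective (K.subtype.subgroupMap_surjective (MK ⊓ R))
        exact Group.isSolvable_of_surjective (f := (subgroupOfEquivOfLe hle).symm.toMonoidHom) (MulEquiv.surjective _)
      have hb := radical_trivial_of_normal F.radical M inferInstance N hNn hNs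
      rw [subgroupOf_eq_bot, disjoint_iff, inf_eq_left.2 hle,
        Subgroup.map_eq_bot_iff_of_injective _ K.subtype_injective] at hb
      exact hb
    let q := QuotientGroup.mk' R
    have hqs : Function.Surjective q := QuotientGroup.mk'_surjective R
    have hqker : ∀ k : K, q k = 1 ↔ k ∈ R := fun k => QuotientGroup.eq_one_iff k
    have hinjM : ∀ x y : K, (x : G) ∈ M → (y : G) ∈ M → q x = q y → x = y := fun x y hx hy e => by
      have h : x⁻¹ * y ∈ MK ⊓ R :=
        ⟨MK.mul_mem (MK.inv_mem hx) hy, (hqker _).1 (by rw [map_mul, map_inv, e, inv_mul_cancel])⟩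
      rw [hMR, mem_bot] at h
      exact inv_mul_eq_one.1 h
    let Ab := (A.subgroupOf K).map q
    let Bb := (B.subgroupOf K).map q
    have F' : Fac (K ⧸ R) Ab Bb := by
      refine ⟨inferInstance, fun h => hKns ?_, fun N hN hNs => ?_, ?_, ?_, fun g => ?_⟩
      · have := hRs
        have := h
        exact (Group.isSolvable_iff_subgroup_quotient R).mpr ⟨inferInstance, inferInstance⟩
      · have hle : R ≤ N.comap q := fun r hr => by
          show q r ∈ N
          rw [(hqker r).2 hr]; exact N.one_mem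
        have hs : Group.IsSolvable (N.comap q) := by
          have := hRs
          have := hNs
          refine Group.isSolvable_of_ker_le_range (inclusion hle) (q.subgroupComap N) fun x hx => ?_
          exact ⟨⟨x, (hqker _).1 (congrArg Subtype.val hx)⟩, rfl⟩
        have h1 := hRmax _ (hN.comap q) hs
        rw [eq_bot_iff]
        intro x hx
        obtain ⟨k, rfl⟩ := hqs x
        exact mem_bot.2 ((hqker k).2 (h1 hx))
      · have : IsCyclic (A.subgroupOf K) := isCyclic_of_injective
          ((K.subtype.comp (A.subgroupOf K).subtype).codRestrict A fun y => y.2)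
          (fun u v e => Subtype.ext (Subtype.ext (congrArg (fun w : A => (w : G)) e)))
        exact isCyclic_of_surjective _ (q.subgroupMap_surjective _)
      · have : IsZGroup (B.subgroupOf K) :=
          IsZGroup.of_injective (f := (subgroupOfEquivOfLe hBK).toMonoidHom) (MulEquiv.injective _)
        exact IsZGroup.of_surjective (q.subgroupMap_surjective _)
      · obtain ⟨⟨k, hk⟩, rfl⟩ := hqs g
        obtain ⟨a, ⟨ha, haK⟩, b, hb, rfl⟩ := hprodK k hk
        exact ⟨q ⟨a, haK⟩, mem_map_of_mem q (show (⟨a, haK⟩ : K) ∈ A.subgroupOf K from ha), q ⟨b, hBK hb⟩,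
          mem_map_of_mem q (show (⟨b, hBK hb⟩ : K) ∈ B.subgroupOf K from hb), by rw [← map_mul]; rfl⟩
    have hlt : Nat.card (K ⧸ R) < n := by
      have h1 : Nat.card (K ⧸ R) ≤ Nat.card K := by
        rw [Subgroup.card_eq_card_quotient_mul_card_subgroup R]
        exact Nat.le_mul_of_pos_right _ Nat.card_pos
      have h2 : Nat.card K < Nat.card G := by
        refine lt_of_le_of_ne (Subgroup.card_le_card_group K) fun h => hK.1 (Subgroup.eq_top_of_card_eq K h)
      omega
    have S := F'.cz_of_coatom (ih _ hlt _ Ab Bb F' rfl)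
    have SS := CZ.sharp S
    have := S.faithful
    have := S.finite
    choose D p₀ hp₀ hn₀ hD₀ hDle hDn hDtr hDfree hDp using fun π => S.point_data π
    let π₀ : (K ⧸ R) ⧸ Bb := ((1 : K ⧸ R) : (K ⧸ R) ⧸ Bb)
    set p := p₀ π₀ with hpdef
    have hpp : ∀ π, p₀ π = p := fun π => by have := hn₀ π; have := hn₀ π₀; omega
    have hp : p.Prime := hp₀ π₀
    have := Fact.mk hp
    have hcardP : Nat.card ((K ⧸ R) ⧸ Bb) = p + 1 := hn₀ π₀
    let Mb := MK.map q
    have hMb : Mb.Normal := (inferInstance : MK.Normal).map q hqs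
    have hMbne : Mb ≠ ⊥ := by
      intro h
      apply hMne
      rw [eq_bot_iff]
      intro x hx
      have h1 : q ⟨x, K.normalCore_le hx⟩ = 1 := by
        rw [← mem_bot, ← h]
        exact mem_map_of_mem q (show (⟨x, K.normalCore_le hx⟩ : K) ∈ MK from hx)
      exact mem_bot.2 (congrArg Subtype.val
        (hinjM _ 1 hx M.one_mem (h1.trans (map_one q).symm)))
    -- the normal subgroup of the stabiliser lies in the image of the core
    have hDM : ∀ π, D π ≤ Mb := by
      intro π
      have h6 : 6 ≤ Nat.card ((K ⧸ R) ⧸ Bb) := by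
        by_contra h6
        have h4 : Nat.card ((K ⧸ R) ⧸ Bb) = 4 := by
          have := S.four
          obtain ⟨j, hj⟩ := S.even
          omega
        exact F'.nonsolvable (isSolvable_of_faithful_four h4)
      -- transitivity of the normal subgroup
      obtain ⟨y, hy, hy1⟩ := (Subgroup.bot_or_exists_ne_one Mb).resolve_left hMbne
      obtain ⟨x₀, hx₀⟩ := S.exists_moved hy1
      have htr : ∀ u v : (K ⧸ R) ⧸ Bb, ∃ m ∈ Mb, m • u = v := by
        intro u v
        by_cases huv : u = v
        · exact ⟨1, Mb.one_mem, by rw [huv, one_smul]⟩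
        obtain ⟨g, g1, g2⟩ := S.map_pair (Ne.symm hx₀) huv
        exact ⟨g * y * g⁻¹, hMb.conj_mem y hy g, by rw [mul_smul, mul_smul, smul_inv_eq g1, g2]⟩
      have hpre : IsPretransitive Mb ((K ⧸ R) ⧸ Bb) := ⟨fun u v => by
        obtain ⟨m, hm, e⟩ := htr u v
        exact ⟨⟨m, hm⟩, e⟩⟩
      obtain ⟨a, ha⟩ := S.no_regular_normal SS.three h6 Mb hMb hpre
      obtain ⟨⟨⟨m, hm⟩, hma⟩, hm1⟩ := ne_bot_iff_exists_ne_one.1 ha
      have hma' : m • a = a := hma
      have hm1' : m ≠ 1 := fun e => hm1 (Subtype.ext (Subtype.ext e))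
      obtain ⟨g, hg, hga⟩ := htr a π
      set y' := g * m * g⁻¹ with hy'
      have hy'M : y' ∈ Mb := hMb.conj_mem m hm g
      have hy'π : y' • π = π := conj_smul_eq hma' hga
      have hy'1 : y' ≠ 1 := fun e => hm1' (by
        rw [hy', mul_inv_eq_one, mul_eq_left] at e
        exact e)
      by_contra hnle
      have hinf : D π ⊓ Mb = ⊥ := by
        by_contra hne'
        apply hnle
        have hdvd := Subgroup.card_dvd_of_le (inf_le_left : D π ⊓ Mb ≤ D π)
        rw [hD₀] at hdvd
        rcases ((hp₀ π).eq_one_or_self_of_dvd _ hdvd) with h | h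
        · exact absurd (Subgroup.card_eq_one.1 h) hne'
        · have := Subgroup.eq_of_le_of_card_ge (inf_le_left : D π ⊓ Mb ≤ D π) (by rw [hD₀, h])
          rw [← this]
          exact inf_le_right
      have hcomm : ∀ d ∈ D π, y' * d = d * y' := by
        intro d hd
        have h1 : y' * d * y'⁻¹ * d⁻¹ ∈ D π ⊓ Mb := by
          refine ⟨(D π).mul_mem (hDn π y' hy'π d hd) ((D π).inv_mem hd), ?_⟩
          rw [show y' * d * y'⁻¹ * d⁻¹ = y' * (d * y'⁻¹ * d⁻¹) by group]
          exact Mb.mul_mem hy'M (hMb.conj_mem _ (Mb.inv_mem hy'M) d)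
        rw [hinf, mem_bot, mul_inv_eq_one, mul_inv_eq_iff_eq_mul] at h1
        exact h1
      obtain ⟨β, hβ, -⟩ := exists_third (show 3 ≤ Nat.card ((K ⧸ R) ⧸ Bb) by omega) π π
      have hyβ : y' • β ≠ π := fun e => hβ (smul_left_cancel y' (e.trans hy'π.symm))
      obtain ⟨d, hd, hdβ⟩ := hDtr π β (y' • β) hβ hyβ
      have hfix : (d⁻¹ * y') • β = β := by rw [mul_smul, ← hdβ, inv_smul_smul]
      have hall : d⁻¹ * y' = 1 := eq_of_smul_eq_smul fun x => by
        rw [one_smul]
        by_cases hx : x = π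
        · subst hx
          rw [mul_smul, hy'π, inv_smul_eq_iff]
          exact (hDle x hd).symm
        · obtain ⟨d', hd', rfl⟩ := hDtr π β x hβ hx
          have h2 : Commute d d' := by
            have : IsCyclic (D π) := by
              have := Fact.mk (hp₀ π)
              exact isCyclic_of_prime_card (hD₀ π)
            let _ : CommGroup (D π) := IsCyclic.commGroup
            exact congrArg Subtype.val (mul_comm (⟨d, hd⟩ : D π) ⟨d', hd'⟩)
          have e1 : d⁻¹ * y' * d' = d' * (d⁻¹ * y') := by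
            rw [mul_assoc, hcomm d' hd', ← mul_assoc, h2.inv_left.eq, mul_assoc]
          rw [← mul_smul, e1, mul_smul, hfix]
      rw [inv_mul_eq_one] at hall
      have h2 : y' ∈ D π ⊓ Mb := ⟨hall ▸ hd, hy'M⟩
      rw [hinf, mem_bot] at h2
      exact hy'1 h2
    -- the dictionary between points and subgroups of order `p` of `M`
    let Sg := {P : Subgroup G // P ≤ M ∧ Nat.card P = p}
    let act : MulAction G Sg := conjOnSigma M p
    let Fx : Sg → (K ⧸ R) ⧸ Bb → Prop := fun P π => ∀ k : K, (k : G) ∈ P.1 → q k • π = π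
    have hb1 : ∀ π, ∃ P, Fx P π := by
      intro π
      let P₀ : Subgroup K := (D π).comap q ⊓ MK
      have hcard : Nat.card (P₀.map K.subtype) = p := by
        rw [← Nat.card_congr (P₀.equivMapOfInjective _ K.subtype_injective).toEquiv, ← hpp π, ← hD₀ π]
        refine Nat.card_congr (Equiv.ofBijective (fun x : P₀ => (⟨q x.1, x.2.1⟩ : D π)) ⟨fun x y e => ?_, fun d => ?_⟩)
        · exact Subtype.ext (hinjM x.1 y.1 x.2.2 y.2.2 (congrArg Subtype.val e))
        · obtain ⟨k, hk, e⟩ := hDM π d.2
          exact ⟨⟨k, show q k ∈ D π from e ▸ d.2, hk⟩, Subtype.ext e⟩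
      refine ⟨⟨P₀.map K.subtype, ?_, hcard⟩, fun k hk => ?_⟩
      · rintro _ ⟨x, hx, rfl⟩
        exact hx.2
      · obtain ⟨x, hx, e⟩ := hk
        rw [show k = x from Subtype.ext e.symm]
        exact hDle π hx.1
    have hb2 : ∀ P P' π, Fx P π → Fx P' π → P = P' := by
      intro P P' π hP hP'
      have key : ∀ Q : Sg, Fx Q π → Q.1 = ((D π).comap q ⊓ MK).map K.subtype := by
        intro Q hQ
        refine Subgroup.eq_of_le_of_card_ge (fun x hx => ⟨⟨x, K.normalCore_le (Q.2.1 hx)⟩, ⟨?_, Q.2.1 hx⟩, rfl⟩) ?_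
        · refine hDp π _ (hQ _ hx) ?_
          rw [← map_pow, hpp π]
          have h := congrArg Subtype.val (pow_card_eq_one' (x := (⟨x, hx⟩ : Q.1)))
          rw [Q.2.2] at h
          rw [show (⟨x, K.normalCore_le (Q.2.1 hx)⟩ : K) ^ p = 1 from Subtype.ext h, map_one]
        · rw [Q.2.2, ← hpp π, ← hD₀ π]
          refine (le_of_eq ?_)
          rw [← Nat.card_congr (((D π).comap q ⊓ MK).equivMapOfInjective _ K.subtype_injective).toEquiv]
          refine Nat.card_congr (Equiv.ofBijective (fun x : ↥((D π).comap q ⊓ MK) => (⟨q x.1, x.2.1⟩ : D π))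
            ⟨fun x y e => ?_, fun d => ?_⟩)
          · exact Subtype.ext (hinjM x.1 y.1 x.2.2 y.2.2 (congrArg Subtype.val e))
          · obtain ⟨k, hk, e⟩ := hDM π d.2
            exact ⟨⟨k, show q k ∈ D π from e ▸ d.2, hk⟩, Subtype.ext e⟩
      exact Subtype.ext ((key P hP).trans (key P' hP').symm)
    have hgen : ∀ P : Sg, ∃ u : K, (u : G) ∈ P.1 ∧ P.1 = zpowers (u : G) ∧ orderOf (q u) = p := by
      intro P
      obtain ⟨⟨u, hu⟩, hou⟩ := exists_prime_orderOf_dvd_card' (G := P.1) p (dvd_of_eq P.2.2.symm)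
      rw [Subgroup.orderOf_mk] at hou
      refine ⟨⟨u, K.normalCore_le (P.2.1 hu)⟩, hu, (Subgroup.eq_of_le_of_card_ge (zpowers_le.2 hu)
        (by rw [P.2.2, Nat.card_zpowers, hou])).symm, orderOf_eq_prime ?_ fun h => ?_⟩
      · rw [← map_pow, show (⟨u, K.normalCore_le (P.2.1 hu)⟩ : K) ^ p = 1 from
          Subtype.ext (by show u ^ p = 1; rw [← hou, pow_orderOf_eq_one]), map_one]
      · have := congrArg Subtype.val (hinjM _ 1 (P.2.1 hu) M.one_mem (h.trans (map_one q).symm))
        rw [show u = 1 from this, orderOf_one] at hou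
        exact hp.ne_one hou.symm
    have ha1 : ∀ P, ∃ π, Fx P π := by
      intro P
      obtain ⟨u, hu, hP, hou⟩ := hgen P
      have := Fintype.ofFinite ((K ⧸ R) ⧸ Bb)
      have hnd : ¬ p ∣ Fintype.card ((K ⧸ R) ⧸ Bb) := by
        rw [← Nat.card_eq_fintype_card, hcardP]
        intro h
        have h1 : p ∣ 1 := (Nat.dvd_add_right (dvd_refl p)).1 h
        exact hp.ne_one (Nat.dvd_one.1 h1)
      have hσ : (MulAction.toPermHom (K ⧸ R) ((K ⧸ R) ⧸ Bb) (q u)) ^ p ^ 1 = 1 := by
        rw [pow_one, ← map_pow, ← hou, pow_orderOf_eq_one, map_one]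
      obtain ⟨π, hπ⟩ := Equiv.Perm.exists_fixed_point_of_prime hnd hσ
      refine ⟨π, fun k hk => ?_⟩
      rw [hP, mem_zpowers_iff] at hk
      obtain ⟨i, hi⟩ := hk
      rw [show k = u ^ i from Subtype.ext hi.symm, map_zpow]
      exact smul_eq_of_zpowers_le (zpow_mem (mem_zpowers _) i) hπ
    have hc1 : ∀ P π π', Fx P π → Fx P π' → π = π' := by
      intro P π π' hP hP'
      obtain ⟨u, hu, -, hou⟩ := hgen P
      by_contra hne'
      have hD := hDp π (q u) (hP u hu) (by rw [hpp π, ← hou, pow_orderOf_eq_one])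
      have h1 := hDfree π (q u) hD π' (Ne.symm hne') (hP' u hu)
      rw [h1, orderOf_one] at hou
      exact hp.ne_one hou.symm
    have heq : ∀ (k : K) P π, Fx P π → Fx ((k : G) • P) (q k • π) := by
      intro k P π hP x hx
      obtain ⟨y, hy, hyx⟩ := hx
      have e : k * ⟨y, K.normalCore_le (P.2.1 hy)⟩ * k⁻¹ = x := Subtype.ext hyx
      rw [← e, map_mul, map_mul, map_inv, mul_smul, mul_smul, inv_smul_smul, hP _ hy]
    choose E hE using hb1
    have hEiff : ∀ P π, Fx P π → P = E π := fun P π h => hb2 P _ π h (hE π)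
    have hEinj : ∀ π π', E π = E π' → π = π' := fun π π' h => hc1 _ π π' (hE π) (h ▸ hE π')
    have hEsurj : ∀ P, ∃ π, E π = P := fun P => (ha1 P).imp fun π h => (hEiff P π h).symm
    have hEk : ∀ (k : K) π, (k : G) • E π = E (q k • π) := fun k π => hEiff _ _ (heq k _ π (hE π))
    -- an element fixing three of the subgroups fixes all
    have hthree : ∀ (g : G) (a b c : (K ⧸ R) ⧸ Bb), a ≠ b → b ≠ c → a ≠ c →
        g • E a = E a → g • E b = E b → g • E c = E c → ∀ π, g • E π = E π := by
      intro g a b c hab hbc hac ga gb gc π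
      by_cases hπ : π = a
      · rw [hπ]; exact ga
      obtain ⟨d, hd, hdc⟩ := hDtr a b c (Ne.symm hab) (Ne.symm hac)
      obtain ⟨x, hxM, hxd⟩ := hDM a hd
      obtain ⟨e', he', he'π⟩ := hDtr a b π (Ne.symm hab) hπ
      obtain ⟨y, hyM, hye⟩ := hDM a he'
      have hmemE : ∀ k : K, (k : G) ∈ M → q k ∈ D a → (k : G) ∈ (E a).1 := by
        intro k hk hkD
        obtain ⟨v, hv, hEv, hov⟩ := hgen (E a)
        have hvD := hDp a (q v) (hE a v hv) (by rw [hpp a, ← hov, pow_orderOf_eq_one])
        have hz : zpowers (q v) = D a :=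
          Subgroup.eq_of_le_of_card_ge (zpowers_le.2 hvD) (by rw [hD₀, Nat.card_zpowers, hov, hpp a])
        obtain ⟨i, hi⟩ := mem_zpowers_iff.1 (hz.symm ▸ hkD : q k ∈ zpowers (q v))
        rw [← hinjM (v ^ i) k ((zpow_mem ((E a).2.1 hv) i)) hk (by rw [map_zpow, hi]), SubgroupClass.coe_zpow, hEv]
        exact zpow_mem (mem_zpowers _) i
      have hxa : (x : G) ∈ (E a).1 := hmemE x hxM (hxd ▸ hd)
      have hya : (y : G) ∈ (E a).1 := hmemE y hyM (hye ▸ he')
      have hd1 : d ≠ 1 := fun h => hbc (by rw [← hdc, h, one_smul])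
      have hxz : (E a).1 = zpowers (x : G) := by
        refine (Subgroup.eq_of_le_of_card_ge (zpowers_le.2 hxa) ?_).symm
        rw [(E a).2.2, Nat.card_zpowers]
        have hox : orderOf (x : G) ∣ p := by
          have h := orderOf_dvd_natCard (⟨(x : G), hxa⟩ : (E a).1)
          rwa [Subgroup.orderOf_mk, (E a).2.2] at h
        rcases (Nat.dvd_prime hp).1 hox with h | h
        · exfalso
          apply hd1
          rw [← hxd, show x = 1 from Subtype.ext (orderOf_eq_one_iff.1 h), map_one]
        · rw [h]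
      have hgx : g * (x : G) * g⁻¹ ∈ (E a).1 := by
        have h : g * (x : G) * g⁻¹ ∈ (g • E a).1 := ⟨x, hxa, rfl⟩
        rwa [ga] at h
      obtain ⟨i, hi⟩ := mem_zpowers_iff.1 (hxz ▸ hgx)
      -- `x` is centralised
      have hgc : g * (x : G) * g⁻¹ = x := by
        rw [← hi]
        have h1 : g • E c = ((x ^ i : K) : G) • E b := by
          rw [← hdc, ← hxd, ← hEk, SubgroupClass.coe_zpow, hi]
          conv_rhs => rw [← gb, ← mul_smul, inv_mul_cancel_right]
          rw [mul_smul]
        rw [gc, hEk, map_zpow, hxd] at h1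
        have h2 := hEinj _ _ h1
        rw [← hdc] at h2
        have h3 := hDfree a ((d ^ i)⁻¹ * d) ((D a).mul_mem ((D a).inv_mem (zpow_mem hd i)) hd) b (Ne.symm hab)
          (by rw [mul_smul, h2, inv_smul_smul])
        rw [inv_mul_eq_one] at h3
        have h4 : x ^ i = x := hinjM _ x (zpow_mem hxM i) hxM (by rw [map_zpow, hxd, h3])
        exact congrArg Subtype.val h4
      have hgy : g * (y : G) = (y : G) * g := by
        obtain ⟨j, hj⟩ := mem_zpowers_iff.1 (hxz ▸ hya)
        rw [← hj]
        exact (show Commute g (x : G) from mul_inv_eq_iff_eq_mul.1 hgc).zpow_right j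
      rw [← he'π, ← hye, ← hEk, ← mul_smul, hgy, mul_smul, gb]
    -- the kernel
    let φ := MulAction.toPermHom G Sg
    set C := φ.ker with hC
    have hCmem : ∀ g : G, g ∈ C ↔ ∀ π, g • E π = E π := fun g => by
      constructor
      · intro hg π
        exact congrArg (fun σ : Equiv.Perm Sg => σ (E π)) (MonoidHom.mem_ker.1 hg)
      · intro h
        refine MonoidHom.mem_ker.2 (Equiv.ext fun P => ?_)
        obtain ⟨π, rfl⟩ := hEsurj P
        exact h π
    have hCn : C.Normal := MonoidHom.normal_ker φ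
    have hGKC : ∀ g : G, ∃ k : K, (k : G)⁻¹ * g ∈ C := by
      intro g
      obtain ⟨b, hb, -⟩ := exists_third (show 3 ≤ Nat.card ((K ⧸ R) ⧸ Bb) by have := S.four; omega) π₀ π₀
      obtain ⟨c, hc₁, hc₂⟩ := exists_third (show 3 ≤ Nat.card ((K ⧸ R) ⧸ Bb) by have := S.four; omega) π₀ b
      obtain ⟨a', ha'⟩ := hEsurj (g • E π₀)
      obtain ⟨b', hb'⟩ := hEsurj (g • E b)
      obtain ⟨c', hc'⟩ := hEsurj (g • E c)
      have hne : ∀ u v u' v', g • E u = E u' → g • E v = E v' → u ≠ v → u' ≠ v' :=
        fun u v u' v' hu hv huv e => huv (hEinj _ _ (smul_left_cancel g ((hu.trans (congrArg E e)).trans hv.symm)))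
      have hab' := hne π₀ b a' b' ha'.symm hb'.symm (Ne.symm hb)
      have hac' := hne π₀ c a' c' ha'.symm hc'.symm (Ne.symm hc₁)
      have hbc' := hne b c b' c' hb'.symm hc'.symm (Ne.symm hc₂)
      obtain ⟨g₁, g1a, g1b⟩ := S.map_pair (Ne.symm hb) hab'
      obtain ⟨h, hh, hhc⟩ := SS.map_third (c := g₁ • c) (d := c') hab'
        (fun e => hc₁ (smul_left_cancel g₁ (e.trans g1a.symm))) (fun e => hc₂ (smul_left_cancel g₁ (e.trans g1b.symm)))
        (Ne.symm hac') (Ne.symm hbc')
      obtain ⟨k, hk⟩ := hqs (h * g₁)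
      refine ⟨k, (hCmem _).2 (hthree _ π₀ b c (Ne.symm hb) (Ne.symm hc₂) (Ne.symm hc₁) ?_ ?_ ?_)⟩
      · rw [mul_smul, ← ha', inv_smul_eq_iff, hEk, hk, mul_smul, g1a, (hh.1 : h • a' = a')]
      · rw [mul_smul, ← hb', inv_smul_eq_iff, hEk, hk, mul_smul, g1b, (hh.2 : h • b' = b')]
      · rw [mul_smul, ← hc', inv_smul_eq_iff, hEk, hk, mul_smul, hhc]
    have hnotK : ¬ C ≤ K := fun h => hK.1 (eq_top_iff.2 fun g _ => by
      obtain ⟨k, hk⟩ := hGKC g
      have := K.mul_mem k.2 (h hk)
      rwa [mul_inv_cancel_left] at this)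
    have hCne : C ≠ ⊥ := fun h => hnotK (h ▸ bot_le)
    -- the factorisation of `C`
    let _ : CommGroup A := IsCyclic.commGroup
    have hAC : ∀ a ∈ A, a • E π₀ = E π₀ → a ∈ C := by
      intro a ha he
      refine (hCmem a).2 fun π => ?_
      obtain ⟨ab, hab, e⟩ := F'.transitive π₀ π
      obtain ⟨c, hc, rfl⟩ := hab
      have hca : a * (c : G) = (c : G) * a := congrArg Subtype.val (mul_comm (⟨a, ha⟩ : A) ⟨(c : G), hc⟩)
      rw [← e, ← hEk, ← mul_smul, hca, mul_smul, he]
    have F'' : Fac C (A.subgroupOf C) (B.subgroupOf C) := by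
      refine ⟨inferInstance, fun h => hCne (F.radical C hCn h), radical_trivial_of_normal F.radical C hCn, ?_, ?_,
        fun g => ?_⟩
      · exact isCyclic_of_injective ((C.subtype.comp (A.subgroupOf C).subtype).codRestrict A fun y => y.2)
          (fun u v e => Subtype.ext (Subtype.ext (congrArg (fun w : A => (w : G)) e)))
      · exact IsZGroup.of_injective (f := ((C.subtype.comp (B.subgroupOf C).subtype).codRestrict B fun y => y.2))
          (fun u v e => Subtype.ext (Subtype.ext (congrArg (fun w : B => (w : G)) e)))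
      · obtain ⟨a, ha, b, hb, e⟩ := F.prod (g : G)
        have hbπ : b • E π₀ = E π₀ := by
          rw [show b = ((⟨b, hBK hb⟩ : K) : G) from rfl, hEk]
          congr 1
          have : q ⟨b, hBK hb⟩ ∈ stabilizer (K ⧸ R) π₀ := by
            rw [stabilizer_quotient]
            exact mem_map_of_mem q (show (⟨b, hBK hb⟩ : K) ∈ B.subgroupOf K from hb)
          exact this
        have haC : a ∈ C := hAC a ha (by
          have := (hCmem (g : G)).1 g.2 π₀
          rwa [e, mul_smul, hbπ] at this)
        have hbC : b ∈ C := by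
          have := C.mul_mem (C.inv_mem haC) g.2
          rwa [e, inv_mul_cancel_left] at this
        exact ⟨⟨a, haC⟩, ha, ⟨b, hbC⟩, hb, Subtype.ext e⟩
    have hCtop : C ≠ ⊤ := by
      intro h
      obtain ⟨b, hb, -⟩ := exists_third (show 3 ≤ Nat.card ((K ⧸ R) ⧸ Bb) by have := S.four; omega) π₀ π₀
      obtain ⟨ab, -, e⟩ := F'.transitive π₀ b
      obtain ⟨k, rfl⟩ := hqs ab
      refine hb (hEinj _ _ ?_)
      rw [← e, ← hEk]
      exact (hCmem _).1 (h ▸ mem_top _) π₀
    have hlt' : Nat.card C < n :=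
      hn ▸ lt_of_le_of_ne (Subgroup.card_le_card_group C) fun h => hCtop (Subgroup.eq_top_of_card_eq C h)
    have hco := ih _ hlt' _ _ _ F'' rfl
    -- an involution of `A` in `C` and in `K`
    have hevC : 2 ∣ Nat.card (A.subgroupOf C) := F''.card ▸ even_iff_two_dvd.1 F''.degree.1
    have hevK : 2 ∣ Nat.card (A.subgroupOf K) := by
      refine (even_iff_two_dvd.1 (?_ : Even (Nat.card Ab))).trans (Subgroup.card_map_dvd (A.subgroupOf K) q)
      rw [F'.card]; exact F'.degree.1
    obtain ⟨⟨t, htC⟩, ht⟩ := exists_prime_orderOf_dvd_card' (G := A.subgroupOf C) 2 hevC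
    obtain ⟨⟨t', ht'K⟩, ht'⟩ := exists_prime_orderOf_dvd_card' (G := A.subgroupOf K) 2 hevK
    rw [Subgroup.orderOf_mk, ← Subgroup.orderOf_coe] at ht ht'
    have htt : (t : G) = (t' : G) := by
      have hz : zpowers (⟨(t : G), htC⟩ : A) = zpowers (⟨(t' : G), ht'K⟩ : A) :=
        CfsgLib.ClassSizes.Kulakoff.eq_of_card_eq_of_isCyclic (by
          rw [Nat.card_zpowers, Nat.card_zpowers, ← Subgroup.orderOf_coe, ← Subgroup.orderOf_coe]
          exact ht.trans ht'.symm)
      obtain ⟨i, hi⟩ := mem_zpowers_iff.1 (hz.symm ▸ mem_zpowers (⟨(t' : G), ht'K⟩ : A) :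
        (⟨(t' : G), ht'K⟩ : A) ∈ zpowers (⟨(t : G), htC⟩ : A))
      have hi' : (t : G) ^ i = t' := congrArg Subtype.val hi
      rcases Int.even_or_odd i with ⟨j, rfl⟩ | ⟨j, rfl⟩
      · exfalso
        rw [← two_mul, zpow_mul, zpow_ofNat, ← ht, pow_orderOf_eq_one, one_zpow] at hi'
        rw [← hi', orderOf_one] at ht'
        omega
      · rw [← hi', zpow_add_one, zpow_mul, zpow_ofNat, ← ht, pow_orderOf_eq_one, one_zpow, one_mul]
    have htK : (t : G) ∈ K := htt ▸ (t'.2 : (t' : G) ∈ K)
    have hle : B.subgroupOf C ≤ K.subgroupOf C := fun x hx => hBK hx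
    rcases hco.le_iff.1 hle with h | h
    · exact hnotK (subgroupOf_eq_top.1 h)
    · have htB : (t : G) ∈ B := by
        have : t ∈ B.subgroupOf C := h ▸ (htK : t ∈ K.subgroupOf C)
        exact this
      have h' : (t : G) ∈ A ⊓ B := ⟨htC, htB⟩
      rw [F.inter_eq_bot, mem_bot] at h'
      rw [h', orderOf_one] at ht
      omega

/-- The action on the cosets of the second factor. -/
theorem Fac.cz {G : Type u} [Group G] {A B : Subgroup G} (F : Fac G A B) : CZ G (G ⧸ B) :=
  F.cz_of_coatom F.coatom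

end CfsgLib.Perm.CyclicZStab
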