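import Mathlib

/-!
# Involutions of sharply 3-transitive groups with cyclic two point stabilisers
-/

set_option autoImplicit false

namespace CfsgLib.Perm.CyclicZStab

open MulAction Subgroup

variable {G Ω : Type*} [Group G] [MulAction G Ω]

/-- An involution of a finite set of even size fixing a point fixes another one. -/
theorem exists_second_fixed [Finite Ω] (heven : Even (Nat.card Ω)) {g : G} (hg : g ^ 2 = 1) {a : Ω}
    (ha : g • a = a) : ∃ b, g • b = b ∧ b ≠ a := by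
  classical
  have := Fintype.ofFinite Ω
  have : Fact (Nat.Prime 2) := ⟨Nat.prime_two⟩
  rw [Nat.card_eq_fintype_card] at heven
  have h : (MulAction.toPermHom G Ω g) ^ 2 ^ 1 = 1 := by rw [pow_one, ← map_pow, hg, map_one]
  exact Equiv.Perm.exists_fixed_point_of_prime' (even_iff_two_dvd.1 heven) h ha

/-- A fixed point free involution acts on a set of even size. -/
theorem even_card_of_fpf [Finite Ω] {g : G} (hg : g ^ 2 = 1) (h : ∀ x : Ω, g • x ≠ x) :
    Even (Nat.card Ω) := by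
  classical
  have := Fintype.ofFinite Ω
  have : Fact (Nat.Prime 2) := ⟨Nat.prime_two⟩
  rw [Nat.card_eq_fintype_card, even_iff_two_dvd]
  by_contra hn
  have h' : (MulAction.toPermHom G Ω g) ^ 2 ^ 1 = 1 := by rw [pow_one, ← map_pow, hg, map_one]
  obtain ⟨a, ha⟩ := Equiv.Perm.exists_fixed_point_of_prime hn h'
  exact h a ha

theorem smul_inv_eq {g : G} {a b : Ω} (h : g • a = b) : g⁻¹ • b = a := by rw [← h, inv_smul_smul]

theorem eq_of_fix_three [FaithfulSMul G Ω]
    (h : ∀ g : G, ∀ a b c : Ω, a ≠ b → b ≠ c → a ≠ c → g • a = a → g • b = b → g • c = c → g = 1)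
    {g g' : G} {a b c : Ω} (hab : a ≠ b) (hbc : b ≠ c) (hac : a ≠ c)
    (ha : g • a = g' • a) (hb : g • b = g' • b) (hc : g • c = g' • c) : g = g' := by
  have := h (g'⁻¹ * g) a b c hab hbc hac (by rw [mul_smul, ha, inv_smul_smul])
    (by rw [mul_smul, hb, inv_smul_smul]) (by rw [mul_smul, hc, inv_smul_smul])
  exact (inv_mul_eq_one.1 this).symm

/-- Data of a sharply 3-transitive group with cyclic two point stabilisers. -/
structure Sharp (G Ω : Type*) [Group G] [MulAction G Ω] : Prop where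
  faithful : FaithfulSMul G Ω
  two : IsMultiplyPretransitive G Ω 2
  three : ∀ g : G, ∀ a b c : Ω, a ≠ b → b ≠ c → a ≠ c → g • a = a → g • b = b → g • c = c → g = 1
  card : ∀ a b : Ω, a ≠ b → Nat.card ↥(stabilizer G a ⊓ stabilizer G b) = Nat.card Ω - 2
  cyclic : ∀ a b : Ω, a ≠ b → IsCyclic ↥(stabilizer G a ⊓ stabilizer G b)

variable [Finite Ω]

theorem Sharp.map_pair (S : Sharp G Ω) {a b c d : Ω} (hab : a ≠ b) (hcd : c ≠ d) :
    ∃ g : G, g • a = c ∧ g • b = d :=
  is_two_pretransitive_iff.1 S.two hab hcd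

theorem Sharp.map_third (S : Sharp G Ω) {a b c d : Ω} (hab : a ≠ b) (hca : c ≠ a) (hcb : c ≠ b)
    (hda : d ≠ a) (hdb : d ≠ b) : ∃ h ∈ stabilizer G a ⊓ stabilizer G b, h • c = d := by
  classical
  have := S.faithful
  have := Fintype.ofFinite Ω
  set H := stabilizer G a ⊓ stabilizer G b with hH
  let f : H → {x : Ω // x ∈ ({a, b}ᶜ : Finset Ω)} := fun h => ⟨(h : G) • c, by
    simp only [Finset.mem_compl, Finset.mem_insert, Finset.mem_singleton]
    rintro (e | e)
    · refine hca (smul_left_cancel (h : G) ?_)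
      rw [e, (h.2.1 : (h : G) • a = a)]
    · refine hcb (smul_left_cancel (h : G) ?_)
      rw [e, (h.2.2 : (h : G) • b = b)]⟩
  have hf : Function.Injective f := fun h h' e => Subtype.ext (eq_of_fix_three S.three hab (Ne.symm hcb) (Ne.symm hca)
    ((h.2.1 : (h : G) • a = a).trans (h'.2.1 : (h' : G) • a = a).symm)
    ((h.2.2 : (h : G) • b = b).trans (h'.2.2 : (h' : G) • b = b).symm) (congrArg Subtype.val e))
  have : Finite H := Finite.of_injective f hf
  have hc : Nat.card H = Nat.card {x : Ω // x ∈ ({a, b}ᶜ : Finset Ω)} := by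
    rw [S.card a b hab, Nat.card_eq_finsetCard, Finset.card_compl, Finset.card_pair hab,
      Nat.card_eq_fintype_card]
  obtain ⟨h, hh⟩ := ((Nat.bijective_iff_injective_and_card f).2 ⟨hf, hc⟩).2 ⟨d, by simp [hda, hdb]⟩
  exact ⟨h, h.2, congrArg Subtype.val hh⟩

/-- For each third point there is an involution swapping two points and fixing it. -/
theorem Sharp.exists_swap_fix (S : Sharp G Ω) {a b c : Ω} (hab : a ≠ b) (hca : c ≠ a) (hcb : c ≠ b) :
    ∃ w : G, w • a = b ∧ w • b = a ∧ w • c = c ∧ w ^ 2 = 1 ∧ w ≠ 1 := by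
  have := S.faithful
  obtain ⟨g, hga, hgb⟩ := S.map_pair hab hab.symm
  have h1 : g • c ≠ b := fun e => hca (smul_left_cancel g (e.trans hga.symm))
  have h2 : g • c ≠ a := fun e => hcb (smul_left_cancel g (e.trans hgb.symm))
  obtain ⟨h, hh, hhc⟩ := S.map_third hab h2 h1 hca hcb
  have wa : (h * g) • a = b := by rw [mul_smul, hga]; exact hh.2
  have wb : (h * g) • b = a := by rw [mul_smul, hgb]; exact hh.1
  have wc : (h * g) • c = c := by rw [mul_smul, hhc]
  refine ⟨h * g, wa, wb, wc, S.three _ a b c hab (Ne.symm hcb) (Ne.symm hca) ?_ ?_ ?_, fun e => hab ?_⟩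
  · rw [pow_two, mul_smul, wa, wb]
  · rw [pow_two, mul_smul, wb, wa]
  · rw [pow_two, mul_smul, wc, wc]
  · rw [← wa, e, one_smul]

/-- There is another fixed point free involution commuting with a given one. -/
theorem Sharp.exists_commuting (S : Sharp G Ω) (h4 : 4 ≤ Nat.card Ω)
    {t : G} (ht : t ^ 2 = 1) (htf : ∀ x : Ω, t • x ≠ x)
    (hall : ∀ a b : Ω, a ≠ b → ∀ g : G, g • a = b → g • b = a → g ^ 2 = 1) :
    ∃ r : G, r ^ 2 = 1 ∧ r * t = t * r ∧ r ≠ t ∧ ∀ x : Ω, r • x ≠ x := by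
  classical
  have := S.faithful
  have := Fintype.ofFinite Ω
  obtain ⟨a⟩ : Nonempty Ω := (Nat.card_pos_iff.1 (by omega)).1
  have htt : ∀ x : Ω, t • t • x = x := fun x => by rw [← mul_smul, ← pow_two, ht, one_smul]
  set R : Finset Ω := {a, t • a}ᶜ with hR
  -- the commuting involution moving `a` to `ρ`
  have key : ∀ ρ ∈ R, ∃ g : G, g • a = ρ ∧ g ^ 2 = 1 ∧ g * t = t * g := by
    intro ρ hρ
    simp only [hR, Finset.mem_compl, Finset.mem_insert, Finset.mem_singleton, not_or] at hρ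
    have h1 : t • ρ ≠ a := fun e => hρ.2 (by rw [← e, htt])
    have h2 : t • ρ ≠ ρ := htf ρ
    obtain ⟨g, hga, hgr⟩ := S.map_pair (Ne.symm hρ.1) hρ.1
    have k1 : g • t • a ≠ ρ := fun e => htf a (smul_left_cancel g (e.trans hga.symm))
    have k2 : g • t • a ≠ a := fun e => hρ.2 (smul_left_cancel g (e.trans hgr.symm)).symm
    obtain ⟨h, hh, hht⟩ := S.map_third (Ne.symm hρ.1) k2 k1 h1 h2
    have ga : (h * g) • a = ρ := by rw [mul_smul, hga]; exact hh.2
    have gr : (h * g) • ρ = a := by rw [mul_smul, hgr]; exact hh.1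
    have gt : (h * g) • t • a = t • ρ := by rw [mul_smul, hht]
    have g2 := hall a ρ (Ne.symm hρ.1) _ ga gr
    have gtr : (h * g) • t • ρ = t • a := by
      rw [← gt, ← mul_smul, ← mul_smul, ← pow_two, g2, one_mul]
    refine ⟨h * g, ga, g2, eq_of_fix_three S.three (Ne.symm hρ.1) hρ.2 (Ne.symm (htf a)) ?_ ?_ ?_⟩
    · rw [mul_smul (h * g) t, mul_smul t (h * g), gt, ga]
    · rw [mul_smul (h * g) t, mul_smul t (h * g), gtr, gr]
    · rw [mul_smul (h * g) t, mul_smul t (h * g), htt, gt, ga, htt]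
  choose! r hr using key
  -- if all of them had fixed points they would inject into the pairs of `t`
  by_contra hno
  push Not at hno
  have hfix : ∀ ρ ∈ R, ∃ d, r ρ • d = d := fun ρ hρ => hno (r ρ) (hr ρ hρ).2.1 (hr ρ hρ).2.2 fun e => by
    have := (hr ρ hρ).1
    rw [e] at this
    simp only [hR, Finset.mem_compl, Finset.mem_insert, Finset.mem_singleton, not_or] at hρ
    exact hρ.2 this.symm
  choose! d hd using hfix
  have hdR : ∀ ρ ∈ R, d ρ ∈ R := by
    intro ρ hρ
    have hra := (hr ρ hρ).1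
    simp only [hR, Finset.mem_compl, Finset.mem_insert, Finset.mem_singleton, not_or] at hρ ⊢
    refine ⟨fun e => ?_, fun e => ?_⟩
    · have := hd ρ (by simp [hR, hρ])
      rw [e, hra] at this
      exact hρ.1 this
    · have h := hd ρ (by simp [hR, hρ])
      rw [e, ← mul_smul, (hr ρ (by simp [hR, hρ])).2.2, mul_smul, hra] at h
      exact hρ.1 (smul_left_cancel t h)
  have hcard : R.card = Nat.card Ω - 2 := by
    rw [hR, Finset.card_compl, Finset.card_pair (Ne.symm (htf a)), Nat.card_eq_fintype_card]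
  -- the two fixed points form a pair of `t`, so determine the involution
  have hdet : ∀ ρ ∈ R, ∀ e : Ω, r ρ • e = e → r ρ • t • e = t • e := fun ρ hρ e he => by
    rw [← mul_smul, (hr ρ hρ).2.2, mul_smul, he]
  have huniq : ∀ ρ ∈ R, ∀ ρ' ∈ R, (d ρ' = d ρ ∨ d ρ' = t • d ρ) → ρ = ρ' := by
    intro ρ hρ ρ' hρ' he
    have e1 : r ρ' • d ρ = d ρ := by
      rcases he with he | he
      · rw [← he]; exact hd ρ' hρ'
      · have := hdet ρ' hρ' _ (hd ρ' hρ')
        rwa [he, htt] at this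
    have hne1 : r ρ ≠ 1 := fun e => by
      have := (hr ρ hρ).1
      rw [e, one_smul] at this
      simp [hR, ← this] at hρ
    have hne2 : r ρ' ≠ 1 := fun e => by
      have := (hr ρ' hρ').1
      rw [e, one_smul] at this
      simp [hR, ← this] at hρ'
    have hcyc := S.cyclic (d ρ) (t • d ρ) (Ne.symm (htf _))
    have m1 : r ρ ∈ stabilizer G (d ρ) ⊓ stabilizer G (t • d ρ) := ⟨hd ρ hρ, hdet ρ hρ _ (hd ρ hρ)⟩
    have m2 : r ρ' ∈ stabilizer G (d ρ) ⊓ stabilizer G (t • d ρ) := ⟨e1, hdet ρ' hρ' _ e1⟩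
    have : Finite ↥(stabilizer G (d ρ) ⊓ stabilizer G (t • d ρ)) :=
      Nat.finite_of_card_ne_zero (by rw [S.card _ _ (Ne.symm (htf _))]; omega)
    have := Fintype.ofFinite ↥(stabilizer G (d ρ) ⊓ stabilizer G (t • d ρ))
    have hle := IsCyclic.card_pow_eq_one_le (α := ↥(stabilizer G (d ρ) ⊓ stabilizer G (t • d ρ))) two_pos
    by_contra hne
    have h3 : ({1, ⟨r ρ, m1⟩, ⟨r ρ', m2⟩} : Finset ↥(stabilizer G (d ρ) ⊓ stabilizer G (t • d ρ))).card = 3 := by
      rw [Finset.card_eq_three]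
      refine ⟨_, _, _, ?_, ?_, ?_, rfl⟩
      · exact fun e => hne1 (congrArg Subtype.val e).symm
      · exact fun e => hne2 (congrArg Subtype.val e).symm
      · intro e
        apply hne
        have e' : r ρ = r ρ' := congrArg Subtype.val e
        rw [← (hr ρ hρ).1, ← (hr ρ' hρ').1, e']
    have hsub : ({1, ⟨r ρ, m1⟩, ⟨r ρ', m2⟩} : Finset ↥(stabilizer G (d ρ) ⊓ stabilizer G (t • d ρ))) ⊆
        Finset.univ.filter fun x => x ^ 2 = 1 := by
      intro x hx
      simp only [Finset.mem_insert, Finset.mem_singleton] at hx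
      rcases hx with rfl | rfl | rfl <;>
        simp [Subtype.ext_iff, (hr ρ hρ).2.1, (hr ρ' hρ').2.1]
    have := Finset.card_le_card hsub
    omega
  have hinj : Set.InjOn d R := fun ρ hρ ρ' hρ' e => huniq ρ hρ ρ' hρ' (Or.inl e.symm)
  have hinj' : Set.InjOn (fun ρ => t • d ρ) R := fun ρ hρ ρ' hρ' e => hinj hρ hρ' (smul_left_cancel t e)
  have hdisj : Disjoint (R.image d) (R.image fun ρ => t • d ρ) := by
    rw [Finset.disjoint_left]
    intro x h1 h2
    obtain ⟨ρ, hρ, rfl⟩ := Finset.mem_image.1 h1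
    obtain ⟨ρ', hρ', he⟩ := Finset.mem_image.1 h2
    have := huniq ρ' hρ' ρ hρ (Or.inr he.symm)
    subst this
    exact htf _ he
  have hsub : (R.image d ∪ R.image fun ρ => t • d ρ) ⊆ R := by
    intro x hx
    rcases Finset.mem_union.1 hx with h | h
    · obtain ⟨ρ, hρ, rfl⟩ := Finset.mem_image.1 h
      exact hdR ρ hρ
    · obtain ⟨ρ, hρ, rfl⟩ := Finset.mem_image.1 h
      have := hdR ρ hρ
      simp only [hR, Finset.mem_compl, Finset.mem_insert, Finset.mem_singleton, not_or] at this ⊢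
      exact ⟨fun e => this.2 (by rw [← e, htt]), fun e => this.1 (smul_left_cancel t e)⟩
  have := Finset.card_le_card hsub
  rw [Finset.card_union_of_disjoint hdisj, Finset.card_image_of_injOn hinj,
    Finset.card_image_of_injOn hinj', hcard] at this
  omega

/-- Facts about the elements swapping two given points. -/
theorem Sharp.swappers (S : Sharp G Ω) (heven : Even (Nat.card Ω)) (h4 : 4 ≤ Nat.card Ω) {a b : Ω} (hab : a ≠ b)
    {t : G} (ht : t ^ 2 = 1) (hta : t • a = b) (htf : ∀ x : Ω, t • x ≠ x) :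
    (∀ g : G, g • a = b → g • b = a → g ^ 2 = 1) ∧
    (∀ s : G, s • a = b → s • b = a → (∀ x : Ω, s • x ≠ x) →
      ∃ h ∈ stabilizer G a ⊓ stabilizer G b, h * s * h⁻¹ = t) ∧
    2 * Nat.card {g : G // g • a = b ∧ g • b = a ∧ ∀ x : Ω, g • x ≠ x} = Nat.card Ω - 2 := by
  classical
  have := S.faithful
  have := Fintype.ofFinite Ω
  set H := stabilizer G a ⊓ stabilizer G b with hH
  have hHc := S.card a b hab
  have hfinH : Finite H := Nat.finite_of_card_ne_zero (by rw [hHc]; omega)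
  have := Fintype.ofFinite H
  have := S.cyclic a b hab
  let _ : CommGroup H := IsCyclic.commGroup
  have htb : t • b = a := by rw [← hta, ← mul_smul, ← pow_two, ht, one_smul]
  obtain ⟨c, hca, hcb⟩ : ∃ c : Ω, c ≠ a ∧ c ≠ b := by
    have h : 0 < ({a, b}ᶜ : Finset Ω).card := by
      rw [Finset.card_compl, Finset.card_pair hab, ← Nat.card_eq_fintype_card]; omega
    obtain ⟨c, hc⟩ := Finset.card_pos.1 h
    simp only [Finset.mem_compl, Finset.mem_insert, Finset.mem_singleton, not_or] at hc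
    exact ⟨c, hc.1, hc.2⟩
  obtain ⟨g₀, ga, gb, gc, g2, -⟩ := S.exists_swap_fix hab hca hcb
  have ginv : g₀⁻¹ = g₀ := inv_eq_of_mul_eq_one_right (by rw [← pow_two, g2])
  have hconjH : ∀ h : H, g₀ * h * g₀ ∈ H := fun h => by
    refine ⟨?_, ?_⟩
    · show (g₀ * (h : G) * g₀) • a = a
      rw [mul_smul, mul_smul, ga, (h.2.2 : (h : G) • b = b), gb]
    · show (g₀ * (h : G) * g₀) • b = b
      rw [mul_smul, mul_smul, gb, (h.2.1 : (h : G) • a = a), ga]
  let φ : H →* H := MonoidHom.mk' (fun h => ⟨g₀ * h * g₀, hconjH h⟩) fun x y => Subtype.ext (by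
    show g₀ * ((x : G) * y) * g₀ = g₀ * x * g₀ * (g₀ * y * g₀)
    calc g₀ * ((x : G) * y) * g₀ = g₀ * x * (g₀ * g₀) * y * g₀ := by rw [← pow_two, g2]; group
      _ = _ := by group)
  let J : Subgroup H := (φ * MonoidHom.id H).ker
  have hJ : ∀ h : H, h ∈ J ↔ (g₀ * h) ^ 2 = 1 := fun h => by
    rw [pow_two]
    constructor
    · intro e
      have e' : g₀ * h * g₀ * h = 1 := congrArg Subtype.val e
      rwa [← mul_assoc]
    · intro e
      refine Subtype.ext ?_
      show g₀ * h * g₀ * h = 1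
      rwa [← mul_assoc] at e
  have hsw : ∀ g : G, g • a = b → g • b = a → g₀ * g ∈ H := fun g h1 h2 =>
    ⟨by show (g₀ * g) • a = a; rw [mul_smul, h1, gb], by show (g₀ * g) • b = b; rw [mul_smul, h2, ga]⟩
  have hgg : ∀ g : G, g₀ * (g₀ * g) = g := fun g => by rw [← mul_assoc, ← pow_two, g2, one_mul]
  have hmem : ∀ h : H, (g₀ * h) • a = b ∧ (g₀ * h) • b = a := fun h =>
    ⟨by rw [mul_smul, (h.2.1 : (h : G) • a = a), ga], by rw [mul_smul, (h.2.2 : (h : G) • b = b), gb]⟩
  -- swappers with a fixed point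
  set T₁ : Finset H := Finset.univ.filter fun h => ∃ x : Ω, (g₀ * h) • x = x with hT₁
  set R : Finset Ω := {a, b}ᶜ with hR
  have hRc : R.card = Nat.card Ω - 2 := by
    rw [hR, Finset.card_compl, Finset.card_pair hab, Nat.card_eq_fintype_card]
  have hw : ∀ ε ∈ R, ∃ h : H, (g₀ * h) • ε = ε ∧ (g₀ * h) ^ 2 = 1 := by
    intro ε hε
    simp only [hR, Finset.mem_compl, Finset.mem_insert, Finset.mem_singleton, not_or] at hε
    obtain ⟨w, wa, wb, wc, w2, -⟩ := S.exists_swap_fix hab hε.1 hε.2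
    exact ⟨⟨g₀ * w, hsw w wa wb⟩, by rw [show g₀ * (g₀ * w) = w from hgg w]; exact ⟨wc, w2⟩⟩
  choose! w hw using hw
  have himg : T₁ = R.image w := by
    ext h
    constructor
    · intro hh
      obtain ⟨x, hx⟩ := (Finset.mem_filter.1 hh).2
      have hxR : x ∈ R := by
        simp only [hR, Finset.mem_compl, Finset.mem_insert, Finset.mem_singleton, not_or]
        refine ⟨fun e => hab ?_, fun e => hab ?_⟩
        · rw [e, (hmem h).1] at hx; exact hx.symm
        · rw [e, (hmem h).2] at hx; exact hx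
      refine Finset.mem_image.2 ⟨x, hxR, Subtype.ext (mul_left_cancel (a := g₀) ?_)⟩
      simp only [hR, Finset.mem_compl, Finset.mem_insert, Finset.mem_singleton, not_or] at hxR
      exact eq_of_fix_three S.three hab (Ne.symm hxR.2) (Ne.symm hxR.1) ((hmem _).1.trans (hmem h).1.symm)
        ((hmem _).2.trans (hmem h).2.symm) ((hw x (by simp [hR, hxR])).1.trans hx.symm)
    · intro hh
      obtain ⟨ε, hε, rfl⟩ := Finset.mem_image.1 hh
      exact Finset.mem_filter.2 ⟨Finset.mem_univ _, ε, (hw ε hε).1⟩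
  have hfib : ∀ h ∈ T₁, (R.filter fun ε => w ε = h).card = 2 := by
    intro h hh
    rw [himg] at hh
    obtain ⟨ε, hε, rfl⟩ := Finset.mem_image.1 hh
    obtain ⟨e1, e2⟩ := hw ε hε
    obtain ⟨ε', he', hne⟩ := exists_second_fixed heven e2 e1
    have hR' : ∀ x : Ω, (g₀ * (w ε : G)) • x = x → x ∈ R := fun x hx => by
      simp only [hR, Finset.mem_compl, Finset.mem_insert, Finset.mem_singleton, not_or]
      refine ⟨fun e => hab ?_, fun e => hab ?_⟩
      · rw [e, (hmem _).1] at hx; exact hx.symm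
      · rw [e, (hmem _).2] at hx; exact hx
    have hsame : ∀ x ∈ R, (g₀ * (w ε : G)) • x = x → w x = w ε := fun x hx hfx => by
      refine Subtype.ext (mul_left_cancel (a := g₀) ?_)
      simp only [hR, Finset.mem_compl, Finset.mem_insert, Finset.mem_singleton, not_or] at hx
      exact eq_of_fix_three S.three hab (Ne.symm hx.2) (Ne.symm hx.1) ((hmem _).1.trans (hmem _).1.symm)
        ((hmem _).2.trans (hmem _).2.symm) ((hw x (by simp [hR, hx])).1.trans hfx.symm)
    rw [Finset.card_eq_two]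
    refine ⟨ε, ε', hne.symm, Finset.ext fun x => ?_⟩
    simp only [Finset.mem_filter, Finset.mem_insert, Finset.mem_singleton]
    constructor
    · rintro ⟨hx, he⟩
      by_contra hcon
      push Not at hcon
      have hfx := (hw x hx).1
      rw [he] at hfx
      have h1 := S.three _ ε ε' x hne.symm (Ne.symm hcon.2) (Ne.symm hcon.1) e1 he' hfx
      have := (hmem (w ε)).1
      rw [h1, one_smul] at this
      exact hab this
    · rintro (rfl | rfl)
      · exact ⟨hε, rfl⟩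
      · exact ⟨hR' x he', hsame x (hR' x he') he'⟩
  have hT₁card : 2 * T₁.card = Nat.card Ω - 2 := by
    rw [← hRc, Finset.card_eq_sum_card_fiberwise (f := w) (t := T₁)
      (fun ε hε => himg ▸ Finset.mem_image_of_mem w hε), Finset.sum_congr rfl hfib, Finset.sum_const, smul_eq_mul,
      mul_comm]
  have hJtop : J = ⊤ := by
    by_contra hne
    have h2 : 2 ≤ J.index := by
      have := J.index_ne_zero_of_finite
      have := mt Subgroup.index_eq_one.1 hne
      omega
    have hmul := J.card_mul_index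
    rw [hHc] at hmul
    have hsub : insert (⟨g₀ * t, hsw t hta htb⟩ : H) T₁ ⊆ Finset.univ.filter fun h : H => h ∈ J := by
      intro h hh
      rw [Finset.mem_filter]
      refine ⟨Finset.mem_univ _, (hJ h).2 ?_⟩
      rcases Finset.mem_insert.1 hh with rfl | hh
      · show (g₀ * (g₀ * t)) ^ 2 = 1
        rw [hgg, ht]
      · rw [himg] at hh
        obtain ⟨ε, hε, rfl⟩ := Finset.mem_image.1 hh
        exact (hw ε hε).2
    have hnot : (⟨g₀ * t, hsw t hta htb⟩ : H) ∉ T₁ := fun hh => by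
      obtain ⟨x, hx⟩ := (Finset.mem_filter.1 hh).2
      rw [show g₀ * (g₀ * t) = t from hgg t] at hx
      exact htf x hx
    have hle := Finset.card_le_card hsub
    rw [Finset.card_insert_of_notMem hnot,
      show (Finset.univ.filter fun h : H => h ∈ J).card = Nat.card J by
        rw [Nat.card_eq_fintype_card, Fintype.card_subtype]] at hle
    nlinarith
  have hall : ∀ g : G, g • a = b → g • b = a → g ^ 2 = 1 := fun g h1 h2 => by
    have := (hJ ⟨g₀ * g, hsw g h1 h2⟩).1 (hJtop ▸ mem_top _)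
    rwa [show g₀ * ((⟨g₀ * g, hsw g h1 h2⟩ : H) : G) = g from hgg g] at this
  refine ⟨hall, ?_, ?_⟩
  · -- conjugacy: two classes, the squares and the others
    have hflip : ∀ h : H, g₀ * (h : G) * g₀ = (h : G)⁻¹ := fun h => by
      have := hall _ (hmem h).1 (hmem h).2
      rw [pow_two, ← mul_assoc] at this
      exact eq_inv_of_mul_eq_one_left this
    have hcj : ∀ h₀ h : H, (h₀ : G) * (g₀ * h) * (h₀ : G)⁻¹ = g₀ * ((h₀⁻¹ * h₀⁻¹ * h : H) : G) := by
      intro h₀ h
      have e : (h₀ : G) * g₀ = g₀ * (h₀ : G)⁻¹ := by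
        rw [← hflip h₀, ← mul_assoc, ← mul_assoc, ← pow_two, g2, one_mul]
      have hc : (h₀ : G)⁻¹ * (h : G) * (h₀ : G)⁻¹ = ((h₀⁻¹ * h₀⁻¹ * h : H) : G) := by
        rw [show (h₀ : G)⁻¹ * (h : G) * (h₀ : G)⁻¹ = ((h₀⁻¹ * h * h₀⁻¹ : H) : G) from rfl,
          mul_comm (h₀⁻¹ * h) h₀⁻¹, mul_assoc]
      calc (h₀ : G) * (g₀ * h) * (h₀ : G)⁻¹ = (h₀ : G) * g₀ * h * (h₀ : G)⁻¹ := by group
        _ = g₀ * ((h₀ : G)⁻¹ * h * (h₀ : G)⁻¹) := by rw [e]; group
        _ = _ := by rw [hc]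
    obtain ⟨gen, hgen⟩ := IsCyclic.exists_generator (α := H)
    have hfix : ∀ h : H, (∀ x : Ω, (g₀ * h) • x ≠ x) → ∃ i : ℤ, h = gen ^ (2 * i + 1) := by
      intro h hh
      obtain ⟨j, hj⟩ := Subgroup.mem_zpowers_iff.1 (hgen h)
      rcases Int.even_or_odd j with ⟨i, rfl⟩ | ⟨i, rfl⟩
      · exfalso
        have hc := hcj (gen ^ i) h
        rw [← hj, ← zpow_neg, ← zpow_add, ← zpow_add, show -i + -i + (i + i) = 0 by ring, zpow_zero,
          Subgroup.coe_one, mul_one] at hc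
        apply hh (((gen ^ i : H) : G)⁻¹ • c)
        rw [← hj]
        rw [← smul_left_cancel_iff ((gen ^ i : H) : G), smul_inv_smul, ← mul_smul, ← mul_smul]
        rw [hc, gc]
      · exact ⟨i, hj.symm⟩
    intro s sa sb sf
    obtain ⟨i, hi⟩ := hfix ⟨g₀ * s, hsw s sa sb⟩ (fun x => by
      show (g₀ * (g₀ * s)) • x ≠ x; rw [hgg]; exact sf x)
    obtain ⟨j, hj⟩ := hfix ⟨g₀ * t, hsw t hta htb⟩ (fun x => by
      show (g₀ * (g₀ * t)) • x ≠ x; rw [hgg]; exact htf x)
    refine ⟨((gen ^ (i - j) : H) : G), (gen ^ (i - j) : H).2, ?_⟩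
    have hc := hcj (gen ^ (i - j)) ⟨g₀ * s, hsw s sa sb⟩
    rw [hi, ← zpow_neg, ← zpow_add, ← zpow_add, show -(i - j) + -(i - j) + (2 * i + 1) = 2 * j + 1 by ring,
      ← hj] at hc
    rw [← hi] at hc
    simpa only [hgg] using hc
  · let e : {g : G // g • a = b ∧ g • b = a ∧ ∀ x : Ω, g • x ≠ x} ≃ {h : H // h ∉ T₁} :=
      { toFun := fun g => ⟨⟨g₀ * g.1, hsw g.1 g.2.1 g.2.2.1⟩, fun hh => by
          obtain ⟨x, hx⟩ := (Finset.mem_filter.1 hh).2
          rw [show g₀ * (g₀ * g.1) = g.1 from hgg _] at hx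
          exact g.2.2.2 x hx⟩
        invFun := fun h => ⟨g₀ * (h.1 : G), (hmem h.1).1, (hmem h.1).2, fun x hx =>
          h.2 (Finset.mem_filter.2 ⟨Finset.mem_univ _, x, hx⟩)⟩
        left_inv := fun g => Subtype.ext (hgg _)
        right_inv := fun h => Subtype.ext (Subtype.ext (hgg _)) }
    rw [Nat.card_congr e, Nat.card_eq_fintype_card, Fintype.card_subtype_compl, Fintype.card_coe,
      ← Nat.card_eq_fintype_card, hHc]
    omega

/-- Fixed point free involutions: all conjugate, and their number. -/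
theorem Sharp.fpf_involutions (S : Sharp G Ω) (heven : Even (Nat.card Ω)) (h4 : 4 ≤ Nat.card Ω)
    (hpair : ∀ a b : Ω, a ≠ b → ∃ t : G, t ^ 2 = 1 ∧ t • a = b ∧ ∀ x : Ω, t • x ≠ x) :
    (∀ a b : Ω, a ≠ b → ∀ g : G, g • a = b → g • b = a → g ^ 2 = 1) ∧
    (∀ s t : G, s ^ 2 = 1 → (∀ x : Ω, s • x ≠ x) → t ^ 2 = 1 → (∀ x : Ω, t • x ≠ x) →
      ∃ g : G, g * s * g⁻¹ = t) ∧
    2 * Nat.card {g : G // g ^ 2 = 1 ∧ ∀ x : Ω, g • x ≠ x} = (Nat.card Ω - 1) * (Nat.card Ω - 2) := by
  classical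
  have := S.faithful
  have : Finite G := Finite.of_injective (MulAction.toPermHom G Ω) MulAction.toPerm_injective
  have := Fintype.ofFinite Ω
  obtain ⟨a₀⟩ : Nonempty Ω := (Nat.card_pos_iff.1 (by omega)).1
  have key : ∀ a b : Ω, a ≠ b → (∀ g : G, g • a = b → g • b = a → g ^ 2 = 1) ∧ True ∧
      2 * Nat.card {g : G // g • a = b ∧ g • b = a ∧ ∀ x : Ω, g • x ≠ x} = Nat.card Ω - 2 := fun a b hab => by
    obtain ⟨t, t2, ta, tf⟩ := hpair a b hab
    exact ⟨(S.swappers heven h4 hab t2 ta tf).1, trivial, (S.swappers heven h4 hab t2 ta tf).2.2⟩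
  refine ⟨fun a b hab => (key a b hab).1, fun s t s2 sf t2 tf => ?_, ?_⟩
  · obtain ⟨g, g1, g2⟩ := S.map_pair (a := a₀) (b := s • a₀) (c := a₀) (d := t • a₀) (Ne.symm (sf _)) (Ne.symm (tf _))
    have st : t • t • a₀ = a₀ := by rw [← mul_smul, ← pow_two, t2, one_smul]
    have ss : s • s • a₀ = a₀ := by rw [← mul_smul, ← pow_two, s2, one_smul]
    have c1 : (g * s * g⁻¹) • a₀ = t • a₀ := by rw [mul_smul, mul_smul, smul_inv_eq g1, g2]
    have c2 : (g * s * g⁻¹) • t • a₀ = a₀ := by rw [mul_smul, mul_smul, smul_inv_eq g2, ss, g1]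
    have c3 : ∀ x : Ω, (g * s * g⁻¹) • x ≠ x := fun x hx => sf (g⁻¹ • x) (by
      rw [mul_smul, mul_smul] at hx
      conv_rhs => rw [← hx, inv_smul_smul])
    obtain ⟨h, -, hh⟩ := (S.swappers heven h4 (Ne.symm (tf a₀)) t2 rfl tf).2.1 _ c1 c2 c3
    exact ⟨h * g, by rw [← hh]; group⟩
  · let P : {b : Ω // b ≠ a₀} → Type _ := fun b => {g : G // g • a₀ = b.1 ∧ g • b.1 = a₀ ∧ ∀ x : Ω, g • x ≠ x}
    let e : {g : G // g ^ 2 = 1 ∧ ∀ x : Ω, g • x ≠ x} ≃ Σ b : {b : Ω // b ≠ a₀}, P b :=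
      { toFun := fun g => ⟨⟨g.1 • a₀, g.2.2 a₀⟩, ⟨g.1, rfl, by
          show g.1 • g.1 • a₀ = a₀
          rw [← mul_smul, ← pow_two, g.2.1, one_smul], g.2.2⟩⟩
        invFun := fun x => ⟨x.2.1, (key a₀ x.1.1 (Ne.symm x.1.2)).1 _ x.2.2.1 x.2.2.2.1, x.2.2.2.2⟩
        left_inv := fun g => rfl
        right_inv := fun x => by
          obtain ⟨⟨b, hb⟩, g, h1, h2, h3⟩ := x
          change g • a₀ = b at h1
          subst h1
          rfl }
    rw [Nat.card_congr e, Nat.card_sigma, Finset.mul_sum,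
      Finset.sum_congr rfl (fun b _ => (key a₀ b.1 (Ne.symm b.2)).2.2), Finset.sum_const, Finset.card_univ,
      Fintype.card_subtype_compl, Fintype.card_subtype_eq, smul_eq_mul, Nat.card_eq_fintype_card]

end CfsgLib.Perm.CyclicZStab
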